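/-
Weight vectors of modules in the defining characteristic: cell operators and their existence.
-/
import Cfsg.Agent.Lib.Lie.Rel.StCells
import Cfsg.Agent.Lib.Lie.Rel.SL2
import Mathlib.RepresentationTheory.Basic
import Mathlib.RingTheory.IntegralDomain
import Mathlib.Algebra.BigOperators.Finprod

set_option autoImplicit false

namespace CfsgLib.Lie.Chev

open Cfsg.Lie (ChevalleyDatum)

namespace Rel

variable {D : ChevalleyDatum} {X : Aux} {F : Type*} [Field F] {G : Type*} [Group G] (R : Rel D X F G)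
  {k : Type*} [Field k] {V : Type*} [AddCommGroup V] [Module k V] (ρ : Representation k G V)

/-- conjugation of the torus by a monomial element -/
def hsConj (n : R.NS) : ↥R.HS →* ↥R.HS where
  toFun h := ⟨(n : G)⁻¹ * h * n, by
    have := R.HS_conj (inv_mem n.2) h.2
    rwa [inv_inv] at this⟩
  map_one' := Subtype.ext (by simp)
  map_mul' a b := Subtype.ext (by simp [mul_assoc])

/-- fixed by `U`, eigenvector of the torus -/
structure HVec (v : V) (χ : ↥R.HS →* kˣ) : Prop where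
  unip : ∀ u ∈ R.UP, ρ u v = v
  torus : ∀ h : ↥R.HS, ρ (h : G) v = (χ h : k) • v

/-- the cell operator of a monomial element -/
noncomputable def tN (n : R.NS) (v : V) : V :=
  ∑ᶠ u : ↥(R.US (invSet (R.qact (R.qmk n)⁻¹))), ρ ((u : G) * n) v

/-- the operator of a simple reflection -/
noncomputable def tI (i : Fin D.rank) (v : V) : V :=
  ∑ᶠ a : F, ρ (R.xe (D.simple i) a * R.ne (D.simple i) 1) v

/-- the eigenvalue of `tI` on its image -/
noncomputable def tVal (χ : ↥R.HS →* kˣ) (i : Fin D.rank) : k := by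
  classical exact if ∀ a, χ (R.heHom i a) = 1 then -1 else 0

/-- weight vectors -/
structure IsWeight (v : V) (χ : ↥R.HS →* kˣ) (c : Fin D.rank → Bool) : Prop extends HVec R ρ v χ where
  eig : ∀ i, R.tI ρ i v = (if c i then (-1 : k) else 0) • v
  adm : ∀ i, c i = true → ∀ a, χ (R.heHom i a) = 1

include R

theorem card_cell [Finite F] (w : R.WQ) :
    Nat.card ↥(R.US (invSet (R.qact w⁻¹))) = Nat.card F ^ R.invN w := by
  rw [R.card_US_inv, ← R.invN_eq, R.invN_inv]

theorem tN_one [Finite F] (v : V) : R.tN ρ 1 v = v := by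
  have h1 : Nat.card ↥(R.US (invSet (R.qact (R.qmk (1 : R.NS))⁻¹))) = 1 := by
    rw [R.card_cell, map_one, R.invN_one, pow_zero]
  obtain ⟨hs, -⟩ := Nat.card_eq_one_iff_unique.1 h1
  rw [tN, finsum_eq_single _ 1 (fun u hu => absurd (Subsingleton.elim u 1) hu)]
  simp

theorem tN_unip [Finite F] (n : R.NS) {v : V} (hv : ∀ u ∈ R.UP, ρ u v = v) {g : G} (hg : g ∈ R.UP) :
    ρ g (R.tN ρ n v) = R.tN ρ n v := by
  classical
  have := R.Finite_of_field
  have hperm : R.qact (R.qmk n)⁻¹ = R.nsPerm n⁻¹ := by rw [← R.qact_qmk n⁻¹, map_inv R.qmk]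
  let S := ↥(R.US (invSet (R.qact (R.qmk n)⁻¹)))
  have hmv : ∀ u : S, ∃ m : S, ∃ p, (n : G)⁻¹ * p * n ∈ R.UP ∧
      p ∈ R.US (keepSet (R.nsPerm n⁻¹)) ∧ g * u = m * p := by
    intro u
    obtain ⟨p, hp, m, hm, e⟩ := R.exists_UP_factor (R.nsPerm n⁻¹)
      (inv_mem (mul_mem hg (R.US_mono (invSet_subset _) u.2)))
    refine ⟨⟨m⁻¹, by rw [hperm]; exact inv_mem hm⟩, p⁻¹, ?_, inv_mem hp, ?_⟩
    · have := R.conj_keep (n := n⁻¹) (inv_mem hp)
      simpa using this
    · show g * (u : G) = m⁻¹ * p⁻¹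
      rw [← mul_inv_rev, ← e, inv_inv]
  choose m p hp hpk he using hmv
  have hinj : Function.Injective m := by
    intro u u' e
    have h1 : (u : G)⁻¹ * u' = (p u)⁻¹ * p u' := by
      rw [show (u : G) = g⁻¹ * (m u * p u) by rw [← he, inv_mul_cancel_left],
        show (u' : G) = g⁻¹ * (m u' * p u') by rw [← he, inv_mul_cancel_left], e]
      group
    have h2 : ((u : G)⁻¹ * u') = 1 := R.keep_inf_inv n⁻¹
      (by rw [h1]; exact mul_mem (inv_mem (hpk u)) (hpk u'))
      (mul_mem (inv_mem (by rw [← hperm]; exact u.2)) (by rw [← hperm]; exact u'.2))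
    exact Subtype.ext (inv_mul_eq_one.1 h2)
  have hbij : Function.Bijective m := Finite.injective_iff_bijective.1 hinj
  have := Fintype.ofFinite S
  rw [tN, finsum_eq_sum_of_fintype, map_sum]
  refine Fintype.sum_bijective m hbij _ _ fun u => ?_
  rw [← Module.End.mul_apply, ← map_mul, ← mul_assoc, he u,
    show (m u : G) * p u * n = (m u * n) * ((n : G)⁻¹ * p u * n) by group,
    map_mul, Module.End.mul_apply, hv _ (hp u)]

theorem tN_hvec [Finite F] (n : R.NS) {v : V} {χ : ↥R.HS →* kˣ} (hv : R.HVec ρ v χ) :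
    R.HVec ρ (R.tN ρ n v) (χ.comp (R.hsConj n)) := by
  classical
  have := R.Finite_of_field
  refine ⟨fun g hg => R.tN_unip ρ n hv.unip hg, fun h => ?_⟩
  have hmem : ∀ u : ↥(R.US (invSet (R.qact (R.qmk n)⁻¹))),
      (h : G) * u * (h : G)⁻¹ ∈ R.US (invSet (R.qact (R.qmk n)⁻¹)) := fun u =>
    (Subgroup.mem_normalizer_iff.1 (R.HS_le_normalizer_US _ h.2) _).1 u.2
  have := Fintype.ofFinite ↥(R.US (invSet (R.qact (R.qmk n)⁻¹)))
  rw [tN, finsum_eq_sum_of_fintype, map_sum, Finset.smul_sum]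
  let f : ↥(R.US (invSet (R.qact (R.qmk n)⁻¹))) → ↥(R.US (invSet (R.qact (R.qmk n)⁻¹))) := fun u => ⟨_, hmem u⟩
  have hf : Function.Injective f := fun u u' e =>
    Subtype.ext (mul_left_cancel (mul_right_cancel (congrArg Subtype.val e)))
  refine Fintype.sum_bijective f (Finite.injective_iff_bijective.1 hf) _ _ fun u => ?_
  have e : (h : G) * ((u : G) * n) = ((h : G) * u * (h : G)⁻¹ * n) * ((R.hsConj n h : ↥R.HS) : G) := by
    show _ = _ * ((n : G)⁻¹ * h * n); group
  rw [← Module.End.mul_apply, ← map_mul, e, map_mul, Module.End.mul_apply, hv.torus, map_smul]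
  rfl

theorem tN_torus (n : R.NS) {v : V} {χ : ↥R.HS →* kˣ} (hv : R.HVec ρ v χ) (h : ↥R.HS) :
    R.tN ρ (n * ⟨h, R.HS_le_NS h.2⟩) v = (χ h : k) • R.tN ρ n v := by
  have e : R.qmk (n * ⟨h, R.HS_le_NS h.2⟩) = R.qmk n := by rw [map_mul, (R.qmk_eq_one (g := ⟨h, R.HS_le_NS h.2⟩)).2 h.2, mul_one]
  rw [tN, tN, e, smul_finsum]
  refine finsum_congr fun u => ?_
  rw [Subgroup.coe_mul, ← mul_assoc, map_mul, Module.End.mul_apply, hv.torus, map_smul]

theorem tI_tN [Finite F] (i : Fin D.rank) (n : R.NS) (v : V)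
    (hi : half D ≤ (R.qact (R.qmk n)⁻¹ (R.sroot i) : ℕ)) :
    R.tI ρ i (R.tN ρ n v) = R.tN ρ (R.nS i * n) v := by
  classical
  have := R.Finite_of_field
  have hw : R.qmk (R.nS i * n) = R.qgen i * R.qmk n := map_mul _ _ _
  let S := ↥(R.US (invSet (R.qact (R.qmk n)⁻¹)))
  let T := ↥(R.US (invSet (R.qact (R.qmk (R.nS i * n))⁻¹)))
  have hmove : ∀ u : S, R.ne (D.simple i) 1 * (u : G) * (R.ne (D.simple i) 1)⁻¹ ∈
      R.US (invSet (R.qact (R.qmk (R.nS i * n))⁻¹)) := fun u => by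
    refine IsMon.conj_mem_US R (R.isMon_ne_simple i one_ne_zero) (fun r hr => ?_) u.2
    have hne : r ≠ R.sroot i := fun e => hr.2 (by rw [e]; exact hi)
    refine ⟨R.wperm_pos i r hr.1 hne, ?_⟩
    rw [hw, mul_inv_rev, R.qgen_genInv.inv, R.qact_mul_apply, R.qact_qgen, R.wperm_invol]
    exact hr.2
  have hx : ∀ a, R.xe (D.simple i) a ∈ R.US (invSet (R.qact (R.qmk (R.nS i * n))⁻¹)) := fun a => by
    refine R.xe_mem_US (r := R.sroot i) (S := invSet (R.qact (R.qmk (R.nS i * n))⁻¹)) ⟨R.sroot_pos i, ?_⟩ a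
    rw [hw, mul_inv_rev, R.qgen_genInv.inv, R.qact_mul_apply, R.qact_qgen, R.wperm_sroot, R.qact_negF,
      R.negF_pos_iff, not_not]
    exact hi
  let f : F × S → ↥(R.US (invSet (R.qact (R.qmk (R.nS i * n))⁻¹))) := fun x => ⟨_, mul_mem (hx x.1) (hmove x.2)⟩
  have hinj : Function.Injective f := by
    rintro ⟨a, u⟩ ⟨a', u'⟩ e
    have e' : R.xe (D.simple i) a * (R.ne (D.simple i) 1 * (u : G) * (R.ne (D.simple i) 1)⁻¹) =
        R.xe (D.simple i) a' * (R.ne (D.simple i) 1 * (u' : G) * (R.ne (D.simple i) 1)⁻¹) := congrArg Subtype.val e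
    have h1 : R.xe (R.negF (R.sroot i) : ℕ) (-(a - a')) = (u' : G) * (u : G)⁻¹ := by
      rw [show (R.negF (R.sroot i) : ℕ) = D.neg (D.simple i) from rfl]
      have h0 := R.ne_conj_xe_neg (R.sroot i) (one_ne_zero (α := F)) (-(a - a'))
      rw [one_pow, one_mul, _root_.neg_neg] at h0
      have h0' : R.ne (D.simple i) 1 * R.xe (D.neg (D.simple i)) (-(a - a')) * (R.ne (D.simple i) 1)⁻¹ =
          R.xe (D.simple i) (a - a') := h0
      have h3 : R.xe (D.simple i) (a - a') =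
          R.ne (D.simple i) 1 * ((u' : G) * (u : G)⁻¹) * (R.ne (D.simple i) 1)⁻¹ := by
        rw [show a - a' = -a' + a by ring, ← R.xe_add', R.xe_neg, inv_mul_eq_iff_eq_mul]
        refine mul_right_cancel (b := R.ne (D.simple i) 1 * (u : G) * (R.ne (D.simple i) 1)⁻¹) ?_
        rw [e']; group
      rw [h3] at h0'
      exact mul_left_cancel (mul_right_cancel h0')
    have ha : a = a' := by
      by_contra hne
      refine R.xe_not_BS (r := R.negF (R.sroot i)) (fun hp => (R.negF_pos_iff _).1 hp (R.sroot_pos i))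
        (neg_ne_zero.2 (sub_ne_zero.2 hne))
        (R.UP_le_BS (mul_mem (R.US_mono (invSet_subset _) u'.2) (inv_mem (R.US_mono (invSet_subset _) u.2)))) ?_
      rw [h1]
    subst ha
    simp only [mul_right_inj, mul_left_inj] at e'
    rw [Subtype.ext e']
  have hcard : Nat.card (F × S) = Nat.card T := by
    rw [Nat.card_prod, R.card_cell, R.card_cell, hw, R.invN_simple_mul hi, pow_succ']
  have := Fintype.ofFinite F
  have := Fintype.ofFinite S
  have := Fintype.ofFinite T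
  have hbij : Function.Bijective f := (Fintype.bijective_iff_injective_and_card f).2
    ⟨hinj, by rwa [← Nat.card_eq_fintype_card, ← Nat.card_eq_fintype_card]⟩
  rw [tI, tN, tN, finsum_eq_sum_of_fintype, finsum_eq_sum_of_fintype, finsum_eq_sum_of_fintype]
  simp only [map_sum, ← Module.End.mul_apply, ← map_mul]
  rw [← Fintype.sum_prod_type']
  refine Fintype.sum_bijective f hbij _ _ fun x => ?_
  congr 2
  simp only [f, Subgroup.coe_mul, nS]
  group

theorem tN_tI [Finite F] (n : R.NS) (j : Fin D.rank) (v : V)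
    (hj : half D ≤ (R.qact (R.qmk n) (R.sroot j) : ℕ)) :
    R.tN ρ n (R.tI ρ j v) = R.tN ρ (n * R.nS j) v := by
  classical
  have := R.Finite_of_field
  have hw : R.qmk (n * R.nS j) = R.qmk n * R.qgen j := map_mul _ _ _
  obtain ⟨a, ha⟩ := R.isMon_nsPerm n
  let S := ↥(R.US (invSet (R.qact (R.qmk n)⁻¹)))
  let T := ↥(R.US (invSet (R.qact (R.qmk (n * R.nS j))⁻¹)))
  have hsub : R.US (invSet (R.qact (R.qmk n)⁻¹)) ≤ R.US (invSet (R.qact (R.qmk (n * R.nS j))⁻¹)) := by
    refine R.US_mono fun r hr => ⟨hr.1, ?_⟩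
    rw [hw, mul_inv_rev, R.qgen_genInv.inv, R.qact_mul_apply, R.qact_qgen]
    intro hp
    have hne : R.qact (R.qmk n)⁻¹ r ≠ R.negF (R.sroot j) := fun e => by
      have e2 := congrArg (R.qact (R.qmk n)) e
      rw [R.qact_inv_apply, R.qact_negF] at e2
      exact (R.negF_pos_iff _).1 (e2 ▸ hr.1) hj
    have hne' : R.negF (R.qact (R.qmk n)⁻¹ r) ≠ R.sroot j := fun e => hne (by rw [← e, R.negF_negF])
    have h2 := R.wperm_pos j _ ((R.negF_pos_iff _).2 hr.2) hne'
    rw [← R.qact_qgen, R.qact_negF, R.negF_pos_iff, R.qact_qgen] at h2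
    exact h2 hp
  have hx : ∀ t, (n : G) * R.xe (D.simple j) t * (n : G)⁻¹ ∈
      R.US (invSet (R.qact (R.qmk (n * R.nS j))⁻¹)) := fun t => by
    rw [show R.xe (D.simple j) t = R.xe (R.sroot j : ℕ) t from rfl, (ha (R.sroot j)).2.2.2]
    refine R.xe_mem_US (r := R.nsPerm n (R.sroot j)) (S := invSet (R.qact (R.qmk (n * R.nS j))⁻¹)) ⟨hj, ?_⟩ _
    rw [hw, mul_inv_rev, R.qgen_genInv.inv, R.qact_mul_apply, ← R.qact_qmk, R.qact_apply_inv, R.qact_qgen,
      R.wperm_sroot, R.negF_pos_iff, not_not]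
    exact R.sroot_pos j
  let f : S × F → ↥(R.US (invSet (R.qact (R.qmk (n * R.nS j))⁻¹))) := fun x => ⟨_, mul_mem (hsub x.1.2) (hx x.2)⟩
  have hinj : Function.Injective f := by
    rintro ⟨u, t⟩ ⟨u', t'⟩ e
    have e' : (u : G) * ((n : G) * R.xe (D.simple j) t * (n : G)⁻¹) =
        u' * ((n : G) * R.xe (D.simple j) t' * (n : G)⁻¹) := congrArg Subtype.val e
    have h1 : ((n⁻¹ : R.NS) : G) * ((u' : G)⁻¹ * u) * ((n⁻¹ : R.NS) : G)⁻¹ =
        R.xe (D.simple j) t' * (R.xe (D.simple j) t)⁻¹ := by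
      rw [show (u : G) = u' * ((n : G) * R.xe (D.simple j) t' * (n : G)⁻¹) *
        ((n : G) * R.xe (D.simple j) t * (n : G)⁻¹)⁻¹ by rw [← e']; group]
      rw [InvMemClass.coe_inv]; group
    have hperm : R.qact (R.qmk n)⁻¹ = R.nsPerm n⁻¹ := by rw [← R.qact_qmk n⁻¹, map_inv R.qmk]
    have hm : (u' : G)⁻¹ * u ∈ R.US (invSet (R.nsPerm n⁻¹)) := mul_mem (inv_mem (by rw [← hperm]; exact u'.2)) (by rw [← hperm]; exact u.2)
    have hb : R.xe (D.simple j) t' * (R.xe (D.simple j) t)⁻¹ ∈ R.BS :=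
      R.UP_le_BS (mul_mem (R.xe_mem_US (S := posSet D) (r := R.sroot j) (R.sroot_pos j) t')
        (inv_mem (R.xe_mem_US (S := posSet D) (r := R.sroot j) (R.sroot_pos j) t)))
    have h2 := R.BS_inf_UN hb (h1 ▸ R.conj_inv hm)
    have ht : t' = t := R.xe_inj_param (r := R.sroot j) (mul_inv_eq_one.1 h2)
    subst ht
    simp only [mul_left_inj] at e'
    rw [Subtype.ext e']
  have hcard : Nat.card (S × F) = Nat.card T := by
    have h1 := R.invN_mul_simple (u := R.qmk n * R.qgen j) (k := j) (by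
      rw [R.qact_mul_apply, R.qact_qgen, R.wperm_sroot, R.qact_negF, R.negF_pos_iff, not_not]
      exact hj)
    rw [mul_assoc, show R.qgen j * R.qgen j = 1 from R.qgen_genInv.sq j, mul_one] at h1
    rw [Nat.card_prod, R.card_cell, R.card_cell, hw, h1, pow_succ]
  have := Fintype.ofFinite F
  have := Fintype.ofFinite S
  have := Fintype.ofFinite T
  have hbij : Function.Bijective f := (Fintype.bijective_iff_injective_and_card f).2
    ⟨hinj, by rwa [← Nat.card_eq_fintype_card, ← Nat.card_eq_fintype_card]⟩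
  rw [tI, tN, tN, finsum_eq_sum_of_fintype, finsum_eq_sum_of_fintype, finsum_eq_sum_of_fintype]
  simp only [map_sum, ← Module.End.mul_apply, ← map_mul]
  rw [← Fintype.sum_prod_type']
  refine Fintype.sum_bijective f hbij _ _ fun x => ?_
  congr 2
  simp only [f, Subgroup.coe_mul, nS]
  group

theorem hsConj_nS (i : Fin D.rank) (a : Fˣ) : R.hsConj (R.nS i) (R.heHom i a) = R.heHom i a⁻¹ := by
  apply Subtype.ext
  show (R.ne (D.simple i) 1)⁻¹ * R.he (D.simple i) (a : F) * R.ne (D.simple i) 1 = R.he (D.simple i) ((a⁻¹ : Fˣ) : F)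
  have h := R.ne_one_mul_he (R.sroot i) (a := ((a⁻¹ : Fˣ) : F)) (Units.ne_zero _)
  simp only [sroot, Units.val_inv_eq_inv_val, inv_inv] at h ⊢
  rw [mul_assoc, ← h]; group

theorem tVal_conj (χ : ↥R.HS →* kˣ) (i : Fin D.rank) :
    R.tVal (χ.comp (R.hsConj (R.nS i))) i = R.tVal χ i := by
  classical
  unfold tVal
  refine if_congr ⟨fun h a => ?_, fun h a => ?_⟩ rfl rfl
  · have := h a⁻¹
    rwa [MonoidHom.comp_apply, R.hsConj_nS, inv_inv] at this
  · rw [MonoidHom.comp_apply, R.hsConj_nS]; exact h _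

theorem tI_tI [Finite F] (p : ℕ) [CharP F p] [CharP k p] (i : Fin D.rank) {v : V} {χ : ↥R.HS →* kˣ}
    (hv : R.HVec ρ v χ) : R.tI ρ i (R.tI ρ i v) = R.tVal χ i • R.tI ρ i v := by
  classical
  have := Fintype.ofFinite F
  have hq : (Fintype.card F : k) = 0 :=
    (CharP.cast_eq_zero_iff k p _).2 ((CharP.cast_eq_zero_iff F p _).1 (FiniteField.cast_card_eq_zero F))
  set n := R.ne (D.simple i) 1 with hn
  have hxfix : ∀ b, ρ (R.xe (D.simple i) b) v = v := fun b =>
    hv.unip _ (R.xe_mem_US (S := posSet D) (r := R.sroot i) (R.sroot_pos i) b)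
  have hhe : ∀ a : Fˣ, ρ (R.he (D.simple i) (a : F)) v = (χ (R.heHom i a) : k) • v := fun a =>
    hv.torus (R.heHom i a)
  have hnn : ρ (n * n) v = (χ (R.heHom i (-1)) : k) • v := by
    rw [← hhe, show n * n = R.he (D.simple i) (-1) from R.ne_sq (R.sroot i), Units.val_neg, Units.val_one]
  have key : ∀ b : Fˣ, ρ (n * R.xe (D.simple i) (b : F) * n) v =
      (χ (R.heHom i (-b)) : k) • ρ (R.xe (D.simple i) (-(b : F)⁻¹) * n) v := by
    intro b
    have hb : (b : F) ≠ 0 := b.ne_zero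
    have h0 := R.ne_conj_xe_simple i (b : F)
    rw [R.xe_neg_eq _ hb, R.ne_eq_he_mul _ (b : F)⁻¹, ← hn, mul_inv_eq_iff_eq_mul] at h0
    have h2 : R.he (D.simple i) (b : F)⁻¹ * n = n * R.he (D.simple i) (b : F) :=
      (R.ne_one_mul_he (R.sroot i) hb).symm
    rw [show n * R.xe (D.simple i) (b : F) * n = (R.xe (D.simple i) (-(b : F)⁻¹) * n) *
      R.he (D.simple i) (b : F) * R.xe (D.simple i) (-(b : F)⁻¹) * (n * n) by
        rw [h0, show R.xe (D.simple i) (-(b : F)⁻¹) * (R.he (D.simple i) (b : F)⁻¹ * n) =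
          R.xe (D.simple i) (-(b : F)⁻¹) * (n * R.he (D.simple i) (b : F)) by rw [h2]]
        group]
    rw [map_mul, Module.End.mul_apply, hnn, map_smul, map_mul, Module.End.mul_apply, hxfix, map_mul,
      Module.End.mul_apply, hhe, map_smul, smul_smul, ← Units.val_mul, ← map_mul, ← map_mul, neg_one_mul]
  have e1 : R.tI ρ i (R.tI ρ i v) =
      ∑ b : F, ∑ a : F, ρ (R.xe (D.simple i) a) (ρ (n * R.xe (D.simple i) b * n) v) := by
    rw [tI, tI, finsum_eq_sum_of_fintype, finsum_eq_sum_of_fintype]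
    simp only [map_sum, ← Module.End.mul_apply, ← map_mul]
    rw [Finset.sum_comm]
    simp only [← hn, mul_assoc]
  have e2 : ∀ b : Fˣ, ∑ a : F, ρ (R.xe (D.simple i) a) (ρ (n * R.xe (D.simple i) (b : F) * n) v) =
      (χ (R.heHom i (-b)) : k) • R.tI ρ i v := by
    intro b
    rw [tI, finsum_eq_sum_of_fintype, Finset.smul_sum]
    refine Fintype.sum_equiv (Equiv.addRight (-(b : F)⁻¹)) _ _ fun a => ?_
    rw [key, map_smul, ← Module.End.mul_apply, ← map_mul, ← mul_assoc, R.xe_add']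
    rfl
  rw [e1, ← Finset.add_sum_erase _ _ (Finset.mem_univ (0 : F)), R.xe_zero]
  have h0 : ∑ a : F, ρ (R.xe (D.simple i) a) (ρ (n * 1 * n) v) = 0 := by
    simp only [mul_one, hnn, map_smul, hxfix, Finset.sum_const, Finset.card_univ]
    rw [← Nat.cast_smul_eq_nsmul k, hq, zero_smul]
  rw [h0, zero_add,
    Finset.sum_bij' (t := (Finset.univ : Finset Fˣ))
      (g := fun b : Fˣ => (χ (R.heHom i (-b)) : k) • R.tI ρ i v)
      (fun b hb => Units.mk0 b (Finset.ne_of_mem_erase hb)) (fun b _ => (b : F))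
      (fun _ _ => Finset.mem_univ _) (fun b _ => Finset.mem_erase.2 ⟨b.ne_zero, Finset.mem_univ _⟩)
      (fun _ _ => rfl) (fun b _ => Units.ext rfl) (fun b hb => e2 (Units.mk0 b (Finset.ne_of_mem_erase hb))),
    ← Finset.sum_smul]
  congr 1
  let f : Fˣ →* k := (Units.coeHom k).comp (χ.comp (R.heHom i))
  rw [Fintype.sum_equiv (Equiv.neg Fˣ) (fun b => (χ (R.heHom i (-b)) : k)) (fun b => f b) (fun b => rfl),
    sum_hom_units f, Fintype.card_units]
  have hiff : f = 1 ↔ ∀ a, χ (R.heHom i a) = 1 :=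
    ⟨fun h a => Units.ext (DFunLike.congr_fun h a), fun h => MonoidHom.ext fun a => by simp [f, h]⟩
  unfold tVal
  by_cases h : ∀ a, χ (R.heHom i a) = 1
  · rw [if_pos (hiff.2 h), if_pos h, Nat.cast_sub Fintype.card_pos, hq, Nat.cast_one, zero_sub]
  · rw [if_neg (fun h' => h (hiff.1 h')), if_neg h, Nat.cast_zero]

/-- weight vectors exist -/
theorem exists_weight [Finite F] (p : ℕ) [CharP F p] [CharP k p] {v : V} {χ : ↥R.HS →* kˣ}
    (hne : v ≠ 0) (hv : R.HVec ρ v χ) : ∃ v' χ' c, v' ≠ 0 ∧ R.IsWeight ρ v' χ' c := by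
  classical
  have := R.Finite_of_field
  have : Nonempty {n : R.NS // R.tN ρ n v ≠ 0} := ⟨⟨1, by rwa [R.tN_one ρ v]⟩⟩
  obtain ⟨⟨n, hn⟩, hmax⟩ := Finite.exists_max fun n : {n : R.NS // R.tN ρ n v ≠ 0} => R.invN (R.qmk n.1)
  have hkey : ∀ i, R.tI ρ i (R.tN ρ n v) = 0 ∨
      R.tI ρ i (R.tN ρ n v) = R.tVal (χ.comp (R.hsConj n)) i • R.tN ρ n v := by
    intro i
    by_cases hi : half D ≤ (R.qact (R.qmk n)⁻¹ (R.sroot i) : ℕ)
    · refine Or.inl ?_
      rw [R.tI_tN ρ i n v hi]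
      by_contra hc
      have h1 := hmax ⟨_, hc⟩
      simp only at h1
      rw [map_mul, show R.qmk (R.nS i) = R.qgen i from rfl, R.invN_simple_mul hi] at h1
      omega
    · refine Or.inr ?_
      have hi' : half D ≤ (R.qact (R.qmk ((R.nS i)⁻¹ * n))⁻¹ (R.sroot i) : ℕ) := by
        rw [map_mul, map_inv R.qmk, show R.qmk (R.nS i) = R.qgen i from rfl, mul_inv_rev, inv_inv, R.qact_mul_apply,
          R.qact_qgen, R.wperm_sroot, R.qact_negF, R.negF_pos_iff]
        exact hi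
      have e := R.tI_tN ρ i _ v hi'
      rw [mul_inv_cancel_left] at e
      have hv' := R.tN_hvec ρ ((R.nS i)⁻¹ * n) hv
      have h2 := R.tI_tI ρ p i hv'
      rw [e] at h2
      rw [h2]
      congr 1
      rw [← R.tVal_conj (χ.comp (R.hsConj ((R.nS i)⁻¹ * n))) i]
      congr 1
      refine MonoidHom.ext fun h => congrArg χ (Subtype.ext ?_)
      simp [hsConj, mul_assoc]
  refine ⟨_, _, fun i => decide (R.tI ρ i (R.tN ρ n v) = (-1 : k) • R.tN ρ n v), hn,
    { toHVec := R.tN_hvec ρ n hv, eig := fun i => ?_, adm := fun i hc => ?_ }⟩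
  · by_cases h : R.tI ρ i (R.tN ρ n v) = (-1 : k) • R.tN ρ n v
    · simp only [decide_eq_true_eq, h, if_pos trivial]
    · simp only [decide_eq_true_eq, h, if_false]
      rcases hkey i with h' | h'
      · rw [h', zero_smul]
      · unfold tVal at h'
        split_ifs at h' with h2
        · exact absurd h' h
        · rw [h', zero_smul]
  · simp only [decide_eq_true_eq] at hc
    rcases hkey i with h' | h'
    · rw [h'] at hc
      exact absurd (smul_eq_zero.1 hc.symm) (fun h => h.elim (by simp) hn)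
    · rw [hc] at h'
      have := smul_left_injective k hn h'
      unfold tVal at this
      split_ifs at this with h2
      · exact h2
      · exact absurd this (by simp)

end Rel

end CfsgLib.Lie.Chev
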