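/-
Simple modules in the defining characteristic: the fixed line of `U` and separation by weights.
-/
import Cfsg.Agent.Lib.Lie.Rel.Modular.Cell
import Mathlib.GroupTheory.PGroup
import Mathlib.Algebra.CharP.Lemmas
import Mathlib.LinearAlgebra.Eigenspace.Triangularizable
import Mathlib.LinearAlgebra.Dual.Lemmas
import Mathlib.Data.ZMod.Basic

set_option autoImplicit false

namespace CfsgLib.Lie.Chev

open Cfsg.Lie (ChevalleyDatum)

section

variable {G : Type*} [Group G] {k : Type*} [Field k] {V : Type*} [AddCommGroup V] [Module k V]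

/-- no invariant subspace other than the trivial ones -/
def NoInvSub (ρ : Representation k G V) : Prop :=
  ∀ W : Submodule k V, (∀ g : G, ∀ x ∈ W, ρ g x ∈ W) → W = ⊥ ∨ W = ⊤

/-- a `p`-group fixes a non-zero vector in characteristic `p` -/
theorem exists_pFixed (p : ℕ) [hp : Fact p.Prime] [CharP k p] (ρ : Representation k G V) (P : Subgroup G)
    [Finite ↥P] (hP : IsPGroup p ↥P) [Nontrivial V] : ∃ v : V, v ≠ 0 ∧ ∀ u ∈ P, ρ u v = v := by
  classical
  obtain ⟨v, hv⟩ := exists_ne (0 : V)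
  have := Fintype.ofFinite ↥P
  let cast : ZMod p →+* k := ZMod.castHom dvd_rfl k
  let φ : (↥P → ZMod p) →+ V :=
    { toFun := fun c => ∑ u, cast (c u) • ρ (u : G) v
      map_zero' := by simp
      map_add' := fun a b => by simp [add_smul, Finset.sum_add_distrib] }
  let W := φ.range
  have : Finite W := Finite.of_surjective φ.rangeRestrict φ.rangeRestrict_surjective
  have hmem : ∀ (g : ↥P) (x : W), ρ (g : G) (x : V) ∈ W := by
    rintro g ⟨_, c, rfl⟩
    refine ⟨fun u => c (g⁻¹ * u), ?_⟩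
    show ∑ u : ↥P, cast (c (g⁻¹ * u)) • ρ (u : G) v = ρ (g : G) (∑ u : ↥P, cast (c u) • ρ (u : G) v)
    rw [map_sum]
    refine Fintype.sum_equiv (Equiv.mulLeft g⁻¹) _ _ fun u => ?_
    rw [map_smul, ← Module.End.mul_apply, ← map_mul, ← Subgroup.coe_mul, Equiv.coe_mulLeft, mul_inv_cancel_left]
  let _ : MulAction ↥P W :=
    { smul := fun g x => ⟨ρ (g : G) x, hmem g x⟩
      one_smul := fun x => Subtype.ext (by show ρ ((1 : ↥P) : G) (x : V) = x; simp)
      mul_smul := fun g h x => Subtype.ext (by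
        show ρ ((g * h : ↥P) : G) (x : V) = ρ (g : G) (ρ (h : G) x); simp) }
  have hvW : v ∈ W := by
    refine ⟨fun u => if u = 1 then 1 else 0, ?_⟩
    show ∑ u : ↥P, cast (if u = 1 then 1 else 0) • ρ (u : G) v = v
    rw [Finset.sum_eq_single 1 (fun u _ hu => by simp [hu]) (by simp)]
    simp
  have hdvd : p ∣ Nat.card W := by
    have hpv : p • (⟨v, hvW⟩ : W) = 0 := Subtype.ext (by
      show p • v = 0
      rw [← Nat.cast_smul_eq_nsmul k, CharP.cast_eq_zero, zero_smul])
    have ho := addOrderOf_eq_prime hpv (fun h => hv (congrArg Subtype.val h))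
    rw [← ho]
    exact addOrderOf_dvd_natCard _
  have hzero : (0 : W) ∈ MulAction.fixedPoints ↥P W := fun g => Subtype.ext (map_zero (ρ (g : G)))
  have hfix : p ∣ Nat.card (MulAction.fixedPoints ↥P W) :=
    Nat.modEq_zero_iff_dvd.1 ((hP.card_modEq_card_fixedPoints W).symm.trans (Nat.modEq_zero_iff_dvd.2 hdvd))
  have hpos : 0 < Nat.card (MulAction.fixedPoints ↥P W) := Nat.card_pos_iff.2 ⟨⟨⟨0, hzero⟩⟩, inferInstance⟩
  have h1 : 1 < Nat.card (MulAction.fixedPoints ↥P W) := lt_of_lt_of_le hp.1.one_lt (Nat.le_of_dvd hpos hfix)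
  have := Finite.one_lt_card_iff_nontrivial.1 h1
  obtain ⟨⟨w, hw⟩, hne⟩ := exists_ne (⟨0, hzero⟩ : MulAction.fixedPoints ↥P W)
  exact ⟨w, fun h => hne (Subtype.ext (Subtype.ext h)), fun u hu => congrArg Subtype.val (hw ⟨u, hu⟩)⟩

/-- commuting operators of finite order have a common eigenvector -/
theorem exists_common_eigen [IsAlgClosed k] (ρ : Representation k G V) (H : Subgroup G)
    (hcomm : ∀ a ∈ H, ∀ b ∈ H, a * b = b * a) (W : Submodule k V) [FiniteDimensional k V]
    (hW : W ≠ ⊥) (hinv : ∀ h ∈ H, ∀ x ∈ W, ρ h x ∈ W) :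
    ∃ v ∈ W, ∃ χ : ↥H →* kˣ, v ≠ 0 ∧ ∀ h : ↥H, ρ (h : G) v = (χ h : k) • v := by
  classical
  have hne : {U : Submodule k V | U ≤ W ∧ U ≠ ⊥ ∧ ∀ h ∈ H, ∀ x ∈ U, ρ h x ∈ U}.Nonempty :=
    ⟨W, le_rfl, hW, hinv⟩
  obtain ⟨U, ⟨hUW, hU0, hUi⟩, hmin⟩ := wellFounded_lt.has_min _ hne
  obtain ⟨v, hvU, hv0⟩ := U.ne_bot_iff.1 hU0
  have hscal : ∀ h : ↥H, ∃ c : k, ρ (h : G) v = c • v := by
    intro h
    let f : Module.End k U := (ρ (h : G)).restrict (hUi h h.2)
    have : Nontrivial U := Submodule.nontrivial_iff_ne_bot.2 hU0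
    obtain ⟨c, hc⟩ := Module.End.exists_eigenvalue f
    obtain ⟨x, hx⟩ := hc.exists_hasEigenvector
    let E : Submodule k V :=
      U ⊓ LinearMap.ker (ρ (h : G) - c • (LinearMap.id : V →ₗ[k] V))
    have hE : E = U := by
      refine (eq_or_lt_of_le (inf_le_left : E ≤ U)).resolve_right fun hlt => hmin E ⟨inf_le_left.trans hUW, ?_, ?_⟩ hlt
      · refine (Submodule.ne_bot_iff _).2 ⟨(x : V), ⟨x.2, ?_⟩, fun h0 => hx.2 (Subtype.ext h0)⟩
        have := congrArg Subtype.val hx.apply_eq_smul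
        simpa [f, sub_eq_zero] using this
      · rintro g hg y ⟨hyU, hy⟩
        refine ⟨hUi g hg y hyU, ?_⟩
        simp only [SetLike.mem_coe, LinearMap.mem_ker, LinearMap.sub_apply, LinearMap.smul_apply,
          LinearMap.id_apply, sub_eq_zero] at hy ⊢
        rw [← Module.End.mul_apply, ← map_mul, hcomm _ h.2 _ hg, map_mul, Module.End.mul_apply, hy, map_smul]
    have hv' : v ∈ E := hE.symm ▸ hvU
    exact ⟨c, by simpa [sub_eq_zero] using hv'.2⟩
  choose c hc using hscal
  have hcne : ∀ h, c h ≠ 0 := fun h e => hv0 (by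
    have := congrArg (ρ ((h : G)⁻¹)) (hc h)
    rwa [← Module.End.mul_apply, ← map_mul, inv_mul_cancel, map_one, Module.End.one_apply, e, zero_smul,
      map_zero] at this)
  refine ⟨v, hUW hvU, MonoidHom.mk' (fun h => Units.mk0 (c h) (hcne h)) (fun a b => Units.ext ?_), hv0, hc⟩
  refine smul_left_injective k hv0 ?_
  show c (a * b) • v = (c a * c b) • v
  rw [← hc, Subgroup.coe_mul, map_mul, Module.End.mul_apply, hc, map_smul, hc, smul_smul, mul_comm]

end

namespace Rel

variable {D : ChevalleyDatum} {X : Aux} {F : Type*} [Field F] {G : Type*} [Group G] (R : Rel D X F G)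
  {k : Type*} [Field k] {V : Type*} [AddCommGroup V] [Module k V] (ρ : Representation k G V)
include R

theorem UP_pGroup (p : ℕ) [hp : Fact p.Prime] [CharP F p] : IsPGroup p ↥R.UP := by
  rintro ⟨g, hg⟩
  refine ⟨D.rank + D.nroots, Subtype.ext (R.θ_injOn_UP (pow_mem hg _) (one_mem _) (R.θ_eq_of_mat ?_))⟩
  have hpow : ∀ n : ℕ, R.mat (g ^ n) = R.mat g ^ n := fun n => by
    induction n with
    | zero => rw [pow_zero, pow_zero, R.mat_one]
    | succ n ih => rw [pow_succ, pow_succ, R.mat_mul, ih]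
  have hN : (R.mat g - 1) ^ (D.rank + D.nroots) = 0 := by
    ext a b
    by_contra h
    have h1 := R.mat_sub_one_pow hg _ a b h
    have h2 := R.rk_le a
    have := R.cert.rank_pos
    omega
  have : Nonempty D.Idx := ⟨Sum.inl ⟨0, R.cert.rank_pos⟩⟩
  have : CharP (Matrix D.Idx D.Idx F) p := Matrix.charP p
  have : (R.mat g - 1) ^ p ^ (D.rank + D.nroots) = 0 :=
    pow_eq_zero_of_le (Nat.lt_pow_self hp.1.one_lt).le hN
  rw [sub_pow_char_pow_of_commute p _ (Commute.one_right _), one_pow, sub_eq_zero, ← hpow] at this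
  rw [SubgroupClass.coe_pow, OneMemClass.coe_one, this, R.mat_one]

theorem UN_pGroup (p : ℕ) [Fact p.Prime] [CharP F p] : IsPGroup p ↥R.UN := by
  obtain ⟨n, -, hn⟩ := R.exists_opp
  rintro ⟨g, hg⟩
  obtain ⟨m, hm⟩ := R.UP_pGroup p ⟨_, hn g hg⟩
  refine ⟨m, Subtype.ext ?_⟩
  have := congrArg Subtype.val hm
  simp only [SubgroupClass.coe_pow, conj_pow, OneMemClass.coe_one, mul_inv_eq_one, mul_eq_left] at this
  simpa using this

/-- every module has a weight vector -/
theorem exists_weight' [Finite F] [IsAlgClosed k] (p : ℕ) [Fact p.Prime] [CharP F p] [CharP k p]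
    [FiniteDimensional k V] [Nontrivial V] : ∃ v χ c, v ≠ 0 ∧ R.IsWeight ρ v χ c := by
  have := R.Finite_of_field
  obtain ⟨v0, hv0, hfix⟩ := exists_pFixed p ρ R.UP (R.UP_pGroup p)
  let W : Submodule k V :=
    { carrier := {x | ∀ u ∈ R.UP, ρ u x = x}
      add_mem' := fun hx hy u hu => by rw [map_add, hx u hu, hy u hu]
      zero_mem' := fun u _ => map_zero _
      smul_mem' := fun c x hx u hu => by rw [map_smul, hx u hu] }
  have hinv : ∀ h ∈ R.HS, ∀ x ∈ W, ρ h x ∈ W := fun h hh x hx u hu => by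
    have h1 := (Subgroup.mem_normalizer_iff''.1 (R.HS_le_normalizer_US _ hh) u).1 hu
    rw [← Module.End.mul_apply, ← map_mul, show u * h = h * (h⁻¹ * u * h) by group, map_mul,
      Module.End.mul_apply, hx _ h1]
  obtain ⟨v, hvW, χ, hv, hχ⟩ := exists_common_eigen ρ R.HS (fun a ha b hb => R.HS_isMulCommutative ha hb) W
    ((Submodule.ne_bot_iff _).2 ⟨v0, hfix, hv0⟩) hinv
  obtain ⟨v', χ', c, h1, h2⟩ := R.exists_weight ρ p hv ⟨hvW, hχ⟩
  exact ⟨v', χ', c, h1, h2⟩

/-- the orbit of `U⁻` on a weight vector spans an invariant subspace -/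
theorem span_invariant [Finite F] {v : V} {χ : ↥R.HS →* kˣ} {c : Fin D.rank → Bool} (hw : R.IsWeight ρ v χ c)
    (g : G) : ∀ x ∈ Submodule.span k {y | ∃ u ∈ R.UN, y = ρ u v}, ρ g x ∈ Submodule.span k {y | ∃ u ∈ R.UN, y = ρ u v} := by
  classical
  have := R.Finite_of_field
  have := Fintype.ofFinite F
  set N := Submodule.span k {y | ∃ u ∈ R.UN, y = ρ u v} with hN
  have hbase : ∀ u ∈ R.UN, ρ u v ∈ N := fun u hu => Submodule.subset_span ⟨u, hu, rfl⟩
  have hv : v ∈ N := by simpa using hbase 1 (one_mem _)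
  have hreduce : ∀ g : G, (∀ u ∈ R.UN, ρ (g * u) v ∈ N) → ∀ x ∈ N, ρ g x ∈ N := by
    intro g hg x hx
    induction hx using Submodule.span_induction with
    | mem y hy => obtain ⟨u, hu, rfl⟩ := hy; rw [← Module.End.mul_apply, ← map_mul]; exact hg u hu
    | zero => rw [map_zero]; exact zero_mem _
    | add a b _ _ ha hb => rw [map_add]; exact add_mem ha hb
    | smul t a _ ha => rw [map_smul]; exact Submodule.smul_mem _ t ha
  have hneg : ∀ w ∈ R.UN, ∀ x ∈ N, ρ w x ∈ N := fun w hw' =>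
    hreduce w fun u hu => hbase _ (mul_mem hw' hu)
  have hH : ∀ h : ↥R.HS, ∀ x ∈ N, ρ (h : G) x ∈ N := by
    intro h
    refine hreduce h fun u hu => ?_
    have h1 := (Subgroup.mem_normalizer_iff.1 (R.HS_le_normalizer_US _ h.2) u).1 hu
    rw [show (h : G) * u = ((h : G) * u * (h : G)⁻¹) * h by group, map_mul, Module.End.mul_apply, hw.torus,
      map_smul]
    exact Submodule.smul_mem _ _ (hbase _ h1)
  have hX : ∀ (i : Fin D.rank) (t : F), ∀ x ∈ N, ρ (R.xe (D.simple i) t) x ∈ N := by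
    intro i t
    have hxfix : ∀ b, ρ (R.xe (D.simple i) b) v = v := fun b =>
      hw.unip _ (R.xe_mem_US (S := posSet D) (r := R.sroot i) (R.sroot_pos i) b)
    have hstep : ∀ a : F, ρ (R.xe (D.simple i) a * R.ne (D.simple i) 1) v ∈ N := by
      have hne : ∀ a : F, a ≠ 0 → ρ (R.xe (D.simple i) a * R.ne (D.simple i) 1) v ∈ N := by
        intro a ha
        have e0 := R.xe_neg_eq (D.simple i) (t := -a) (neg_ne_zero.2 ha)
        rw [_root_.neg_neg, R.ne_eq_he_mul (D.simple i) (-a)⁻¹] at e0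
        have e1 : R.xe (D.simple i) (-(-a)⁻¹) * R.he (D.simple i) (-a)⁻¹ =
            R.he (D.simple i) (-a)⁻¹ * R.xe (D.simple i) a := by
          have h5 := R.he_conj_xe (R.sroot i) (inv_ne_zero (neg_ne_zero.2 ha)) a
          rw [show ((-a)⁻¹) ^ 2 * a = -(-a)⁻¹ by field_simp] at h5
          exact h5.symm
        have e2 : ρ (R.xe (D.neg (D.simple i)) a) v =
            ρ (R.he (D.simple i) (-a)⁻¹) (ρ (R.xe (D.simple i) a * R.ne (D.simple i) 1) v) := by
          rw [e0, map_mul, Module.End.mul_apply, hxfix, ← Module.End.mul_apply, ← map_mul, ← mul_assoc,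
            ← mul_assoc, e1]
        have hh := R.he_mem_HS i (c := (-a)⁻¹) (inv_ne_zero (neg_ne_zero.2 ha))
        have h6 := hH ⟨_, inv_mem hh⟩ _ (hbase _ (R.xe_mem_US (S := negSet D) (r := R.negF (R.sroot i))
          (fun hp => (R.negF_pos_iff _).1 hp (R.sroot_pos i)) a))
        have e3 : ρ (R.he (D.simple i) (-a)⁻¹)⁻¹ (ρ (R.xe (D.neg (D.simple i)) a) v) =
            ρ (R.xe (D.simple i) a * R.ne (D.simple i) 1) v := by
          rw [e2, ← Module.End.mul_apply, ← map_mul, inv_mul_cancel, map_one, Module.End.one_apply]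
        rw [← e3]
        exact h6
      intro a
      by_cases ha : a = 0
      · subst ha
        have h7 := hw.eig i
        rw [tI, finsum_eq_sum_of_fintype, ← Finset.add_sum_erase _ _ (Finset.mem_univ (0 : F))] at h7
        rw [eq_sub_of_add_eq h7]
        exact sub_mem (Submodule.smul_mem _ _ hv) (sum_mem fun b hb => hne b (Finset.ne_of_mem_erase hb))
      · exact hne a ha
    refine hreduce _ fun u hu => ?_
    obtain ⟨w, hw0⟩ := R.exists_opposite
    obtain ⟨α, hα⟩ := R.isMon_nsPerm w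
    obtain ⟨j, hj⟩ : ∃ j, R.nsPerm w (R.negF (R.sroot i)) = R.sroot j := by
      have hp : half D ≤ (R.nsPerm w (R.negF (R.sroot i)) : ℕ) :=
        (hw0 _).2 fun hp => (R.negF_pos_iff _).1 hp (R.sroot_pos i)
      refine R.eq_sroot_of_height hp ?_
      obtain ⟨g', hg'⟩ : ∃ g', g' = R.qmk w⁻¹ := ⟨_, rfl⟩
      have hback : R.qact g' (R.nsPerm w (R.negF (R.sroot i))) = R.negF (R.sroot i) := by
        rw [hg', map_inv, ← R.qact_qmk, R.qact_apply_inv]
      have hle : ∀ t : Fin D.rank, ∑ m : Fin D.rank, X.coef m (R.qact g' (R.sroot t) : ℕ) ≤ -1 := by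
        intro t
        have hn : ¬ half D ≤ (R.qact g' (R.sroot t) : ℕ) := fun h => by
          have h2 := (hw0 (R.qact g' (R.sroot t))).not.2 (not_not.2 h)
          rw [hg', map_inv, ← R.qact_qmk, R.qact_inv_apply] at h2
          exact h2 (R.sroot_pos t)
        obtain ⟨m, hm⟩ := R.exists_coef_ne_zero (R.qact g' (R.sroot t))
        have hnn : ∀ m' : Fin D.rank, 0 ≤ -X.coef m' (R.qact g' (R.sroot t) : ℕ) := fun m' => by
          have := R.cert.coef_nonneg (R.negF (R.qact g' (R.sroot t))).2 m'.2 ((R.negF_pos_iff _).2 hn)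
          rwa [show (R.negF (R.qact g' (R.sroot t)) : ℕ) = D.neg (R.qact g' (R.sroot t) : ℕ) from rfl,
            R.cert.coef_neg (R.qact g' (R.sroot t)).2 m'.2] at this
        have h1 := Finset.single_le_sum (fun m' _ => hnn m') (Finset.mem_univ m)
        rw [Finset.sum_neg_distrib] at h1
        have := hnn m
        omega
      have hsum : ∑ m : Fin D.rank, X.coef m (R.negF (R.sroot i) : ℕ) = -1 := by
        rw [Finset.sum_eq_single i]
        · rw [show (R.negF (R.sroot i) : ℕ) = D.neg (D.simple i) from rfl,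
            R.cert.coef_neg (R.cert.simple_lt i.2) i.2, R.cert.coef_simple i.2 i.2, if_pos rfl]
        · intro m _ hm
          rw [show (R.negF (R.sroot i) : ℕ) = D.neg (D.simple i) from rfl,
            R.cert.coef_neg (R.cert.simple_lt i.2) m.2, R.cert.coef_simple i.2 m.2,
            if_neg (fun e => hm (Fin.ext e)), neg_zero]
        · simp
      rw [← hback, Finset.sum_congr rfl fun m _ => R.isLin_qact g' _ m, Finset.sum_comm] at hsum
      have hu0 : ∀ t : Fin D.rank, 0 ≤ X.coef t (R.nsPerm w (R.negF (R.sroot i)) : ℕ) := fun t =>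
        R.cert.coef_nonneg (Fin.isLt _) t.2 hp
      have hmul : ∀ t : Fin D.rank, ∑ m : Fin D.rank,
          X.coef t (R.nsPerm w (R.negF (R.sroot i)) : ℕ) * X.coef m (R.qact g' (R.sroot t) : ℕ) ≤
          -X.coef t (R.nsPerm w (R.negF (R.sroot i)) : ℕ) := fun t => by
        rw [← Finset.mul_sum]
        nlinarith [hle t, hu0 t]
      have := Finset.sum_le_sum (s := Finset.univ) fun t _ => hmul t
      rw [hsum, Finset.sum_neg_distrib] at this
      omega
    have hu' : (w : G) * u * (w : G)⁻¹ ∈ R.UP :=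
      IsMon.conj_mem_US R hα (T := posSet D) (fun r hr => (hw0 r).2 hr) hu
    obtain ⟨q, hq, b, hb⟩ := R.exists_UP_split j hu'
    have hcx : ∀ s, (w : G) * R.xe (D.neg (D.simple i)) s * (w : G)⁻¹ =
        R.xe (D.simple j) (α (R.negF (R.sroot i)) * s) := fun s => by
      have := (hα (R.negF (R.sroot i))).2.2.2 s
      rw [hj] at this
      exact this
    have hcy : (w : G) * R.xe (D.simple i) t * (w : G)⁻¹ = R.xe (D.neg (D.simple j)) (α (R.sroot i) * t) := by
      have := (hα (R.sroot i)).2.2.2 t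
      rw [show R.nsPerm w (R.sroot i) = R.negF (R.sroot j) by
        rw [← hj, R.nsPerm_negF, R.negF_negF]] at this
      exact this
    obtain ⟨s, hs⟩ : ∃ s, b = α (R.negF (R.sroot i)) * s :=
      ⟨(α (R.negF (R.sroot i)))⁻¹ * b, by rw [mul_inv_cancel_left₀ (hα _).1]⟩
    have hxq : R.xe (D.neg (D.simple j)) (α (R.sroot i) * t) * q *
        (R.xe (D.neg (D.simple j)) (α (R.sroot i) * t))⁻¹ ∈ R.US (R.restSet j) :=
      (Subgroup.mem_normalizer_iff.1 (R.xe_simple_mem_normalizer j _).2 q).1 hq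
    have hq2 : (w : G)⁻¹ * (R.xe (D.neg (D.simple j)) (α (R.sroot i) * t) * q *
        (R.xe (D.neg (D.simple j)) (α (R.sroot i) * t))⁻¹) * (w : G) ∈ R.UN := by
      have hinv := IsMon.conj_mem_US R (R.isMon_inv hα) (T := negSet D) (fun r hr => ?_)
        (R.US_mono (R.restSet_subset j) hxq)
      · simpa [UN] using hinv
      · intro hp
        have h2 := (hw0 ((R.nsPerm w)⁻¹ r)).not.2 (not_not.2 hp)
        rw [Equiv.Perm.coe_inv, Equiv.apply_symm_apply] at h2
        exact h2 hr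
    have key : R.xe (D.simple i) t * u =
        ((w : G)⁻¹ * (R.xe (D.neg (D.simple j)) (α (R.sroot i) * t) * q *
          (R.xe (D.neg (D.simple j)) (α (R.sroot i) * t))⁻¹) * (w : G)) *
        (R.xe (D.simple i) t * R.xe (D.neg (D.simple i)) s) := by
      rw [show u = (w : G)⁻¹ * (q * R.xe (D.simple j) b) * w by rw [← hb]; group, hs, ← hcx, ← hcy]
      group
    rw [key, map_mul, Module.End.mul_apply]
    refine hneg _ hq2 _ ?_
    by_cases hs0 : s = 0
    · rw [hs0, R.xe_zero, mul_one, hxfix]; exact hv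
    · have e0 := R.xe_neg_eq (D.simple i) (t := -s) (neg_ne_zero.2 hs0)
      rw [_root_.neg_neg, R.ne_eq_he_mul (D.simple i) (-s)⁻¹] at e0
      rw [e0, show R.xe (D.simple i) t * (R.xe (D.simple i) (-(-s)⁻¹) *
        (R.he (D.simple i) (-s)⁻¹ * R.ne (D.simple i) 1) * R.xe (D.simple i) (-(-s)⁻¹)) =
        (R.xe (D.simple i) t * R.xe (D.simple i) (-(-s)⁻¹)) * R.he (D.simple i) (-s)⁻¹ *
          R.ne (D.simple i) 1 * R.xe (D.simple i) (-(-s)⁻¹) by group, R.xe_add']
      have hh := R.he_mem_HS i (c := (-s)⁻¹) (inv_ne_zero (neg_ne_zero.2 hs0))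
      obtain ⟨β, hβ⟩ := R.isMon_of_mem_HS (inv_mem hh)
      have e5 := (hβ (R.sroot i)).2.2.2 (t + -(-s)⁻¹)
      rw [Equiv.Perm.one_apply, inv_inv] at e5
      have e6 : R.xe (D.simple i) (t + -(-s)⁻¹) * R.he (D.simple i) (-s)⁻¹ =
          R.he (D.simple i) (-s)⁻¹ * R.xe (D.simple i) (β (R.sroot i) * (t + -(-s)⁻¹)) := by
        rw [show R.xe (D.simple i) (β (R.sroot i) * (t + -(-s)⁻¹)) =
          (R.he (D.simple i) (-s)⁻¹)⁻¹ * R.xe (D.simple i) (t + -(-s)⁻¹) * R.he (D.simple i) (-s)⁻¹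
          from e5.symm]
        group
      rw [e6, map_mul, Module.End.mul_apply, hxfix, mul_assoc, map_mul, Module.End.mul_apply]
      exact hH ⟨_, hh⟩ _ (hstep _)
  let St : Subgroup G :=
    { carrier := {g | ∀ x ∈ N, ρ g x ∈ N}
      one_mem' := fun x hx => by rwa [map_one, Module.End.one_apply]
      mul_mem' := fun {a b} ha hb x hx => by
        rw [map_mul, Module.End.mul_apply]; exact ha _ (hb _ hx)
      inv_mem' := fun {a} ha => by
        obtain ⟨m, hm⟩ : ∃ m : ℕ, a⁻¹ = a ^ m := ⟨orderOf a - 1, inv_eq_of_mul_eq_one_right (by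
          rw [← pow_succ', Nat.sub_add_cancel (orderOf_pos a), pow_orderOf_eq_one])⟩
        rw [hm]
        clear hm
        induction m with
        | zero => intro x hx; rwa [pow_zero, map_one, Module.End.one_apply]
        | succ m ih => intro x hx; rw [pow_succ, map_mul, Module.End.mul_apply]; exact ih _ (ha _ hx) }
  have hXn : ∀ (i : Fin D.rank) (t : F), R.xe (D.neg (D.simple i)) t ∈ St := fun i t => hneg _
    (R.xe_mem_US (S := negSet D) (r := R.negF (R.sroot i))
      (fun hp => (R.negF_pos_iff _).1 hp (R.sroot_pos i)) t)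
  have hne : ∀ i : Fin D.rank, R.ne (D.simple i) 1 ∈ St := fun i =>
    mul_mem (mul_mem (show R.xe (D.simple i) 1 ∈ St from hX i _) (hXn i _)) (show R.xe (D.simple i) 1 ∈ St from hX i _)
  have hNw : R.Nw ≤ St := (Subgroup.closure_le _).2 (by rintro _ ⟨i, rfl⟩; exact hne i)
  have htop : St = ⊤ := by
    rw [eq_top_iff, ← R.gen, Subgroup.closure_le]
    rintro _ ⟨r, t, rfl⟩
    by_cases hr : r < D.nroots
    · obtain ⟨g', hg', i, hi⟩ := R.exists_conj_simple ⟨r, hr⟩
      obtain ⟨a, ha⟩ := R.exists_isMon g'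
      have h := (ha (R.sroot i)).2.2.2 ((a (R.sroot i))⁻¹ * t)
      rw [hi, mul_inv_cancel_left₀ (ha _).1] at h
      rw [SetLike.mem_coe, show R.xe r t = _ from h.symm]
      exact mul_mem (mul_mem (hNw hg') (show R.xe (R.sroot i : ℕ) _ ∈ St from hX i _)) (inv_mem (hNw hg'))
    · rw [R.xe_oob r t hr]; exact one_mem _
  exact (htop.symm ▸ Subgroup.mem_top g : g ∈ St)

/-- on the span, invariant functionals are determined on the generator -/
theorem fun_eq_zero {v : V} {φ : V →ₗ[k] k} (hφ : ∀ u ∈ R.UN, ∀ x, φ (ρ u x) = φ x) (h0 : φ v = 0) :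
    ∀ x ∈ Submodule.span k {y | ∃ u ∈ R.UN, y = ρ u v}, φ x = 0 := by
  intro x hx
  induction hx using Submodule.span_induction with
  | mem y hy => obtain ⟨u, hu, rfl⟩ := hy; rw [hφ u hu, h0]
  | zero => rw [map_zero]
  | add a b _ _ ha hb => rw [map_add, ha, hb, add_zero]
  | smul t a _ ha => rw [map_smul, ha, smul_zero]

theorem span_eq_top [Finite F] (hirr : NoInvSub ρ) {v : V} (hne : v ≠ 0) {χ : ↥R.HS →* kˣ}
    {c : Fin D.rank → Bool} (hw : R.IsWeight ρ v χ c) :
    Submodule.span k {y | ∃ u ∈ R.UN, y = ρ u v} = ⊤ :=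
  (hirr _ (R.span_invariant ρ hw)).resolve_left ((Submodule.ne_bot_iff _).2
    ⟨v, Submodule.subset_span ⟨1, one_mem _, by simp⟩, hne⟩)

theorem exists_functional [Finite F] (p : ℕ) [Fact p.Prime] [CharP F p] [CharP k p] (hirr : NoInvSub ρ)
    {v : V} (hne : v ≠ 0) {χ : ↥R.HS →* kˣ} {c : Fin D.rank → Bool} (hw : R.IsWeight ρ v χ c) :
    ∃ φ : V →ₗ[k] k, (∀ u ∈ R.UN, ∀ x, φ (ρ u x) = φ x) ∧ φ v = 1 := by
  have := R.Finite_of_field
  have : Nontrivial (Module.Dual k V) := by
    obtain ⟨f, hf⟩ := Module.Projective.exists_dual_ne_zero k hne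
    exact ⟨⟨f, 0, fun h => hf (by rw [h]; rfl)⟩⟩
  obtain ⟨φ, hφ0, hφ⟩ := exists_pFixed p ρ.dual R.UN (R.UN_pGroup p)
  have hinv : ∀ u ∈ R.UN, ∀ x, φ (ρ u x) = φ x := fun u hu x => by
    have := LinearMap.congr_fun (hφ u⁻¹ (inv_mem hu)) x
    simpa [Representation.dual_apply, Module.Dual.transpose_apply, LinearMap.comp_apply] using this
  have hv1 : φ v ≠ 0 := fun h => hφ0 (LinearMap.ext fun x =>
    R.fun_eq_zero ρ hinv h x (by rw [R.span_eq_top ρ hirr hne hw]; trivial))
  refine ⟨(φ v)⁻¹ • φ, fun u hu x => ?_, ?_⟩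
  · simp [hinv u hu x]
  · simp [inv_mul_cancel₀ hv1]

omit R in
theorem noInv_dual [FiniteDimensional k V] (hirr : NoInvSub ρ) : NoInvSub ρ.dual := by
  intro W hW
  rcases hirr W.dualCoannihilator (fun g x hx => by
    rw [Submodule.mem_dualCoannihilator] at hx ⊢
    intro f hf
    have := hx _ (hW g⁻¹ f hf)
    simpa [Representation.dual_apply, Module.Dual.transpose_apply, LinearMap.comp_apply] using this) with h | h
  · refine Or.inr ?_
    have := Subspace.dualCoannihilator_dualAnnihilator_eq (W := W)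
    rw [h, Submodule.dualAnnihilator_bot] at this
    exact this.symm
  · refine Or.inl ?_
    have := Subspace.dualCoannihilator_dualAnnihilator_eq (W := W)
    rw [h, Submodule.dualAnnihilator_top] at this
    exact this.symm

/-- the fixed vectors of `U` in a simple module form a line -/
theorem fixed_line [Finite F] [IsAlgClosed k] (p : ℕ) [Fact p.Prime] [CharP F p] [CharP k p]
    [FiniteDimensional k V] (hirr : NoInvSub ρ) {v v' : V} (hv0 : v ≠ 0) (hv : ∀ u ∈ R.UP, ρ u v = v)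
    (hv' : ∀ u ∈ R.UP, ρ u v' = v') : ∃ c : k, v' = c • v := by
  obtain ⟨n, hn1, hn2⟩ := R.exists_opp
  have : Nontrivial V := ⟨⟨v, 0, hv0⟩⟩
  have : Nontrivial (Module.Dual k V) := by
    obtain ⟨f, hf⟩ := Module.Projective.exists_dual_ne_zero k hv0
    exact ⟨⟨f, 0, fun h => hf (by rw [h]; rfl)⟩⟩
  obtain ⟨φ, χ, c, hφ0, hφ⟩ := R.exists_weight' ρ.dual p
  have hspan := R.span_eq_top ρ.dual (noInv_dual ρ hirr) hφ0 hφ
  have hfix : ∀ w : V, (∀ u ∈ R.UP, ρ u w = w) → ∀ u ∈ R.UN, ρ u (ρ (n : G) w) = ρ (n : G) w := by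
    intro w hw u hu
    obtain ⟨u', hu', rfl⟩ : ∃ u' ∈ R.UP, (n : G) * u' * (n : G)⁻¹ = u := by
      let f : ↥R.UP → ↥R.UN := fun x => ⟨_, hn1 x x.2⟩
      have hf : Function.Injective f := fun x y e =>
        Subtype.ext (mul_left_cancel (mul_right_cancel (congrArg Subtype.val e)))
      let g : ↥R.UN → ↥R.UP := fun x => ⟨_, hn2 x x.2⟩
      have hg : Function.Injective g := fun x y e =>
        Subtype.ext (mul_left_cancel (mul_right_cancel (congrArg Subtype.val e)))
      have := R.Finite_of_field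
      have hc : Nat.card ↥R.UP = Nat.card ↥R.UN :=
        le_antisymm (Nat.card_le_card_of_injective f hf) (Nat.card_le_card_of_injective g hg)
      obtain ⟨x, hx⟩ := ((Nat.bijective_iff_injective_and_card f).2 ⟨hf, hc⟩).2 ⟨u, hu⟩
      exact ⟨x, x.2, congrArg Subtype.val hx⟩
    rw [map_mul, map_mul, Module.End.mul_apply, Module.End.mul_apply, ← Module.End.mul_apply (ρ (n : G)⁻¹),
      ← map_mul, inv_mul_cancel, map_one, Module.End.one_apply, hw u' hu']
  have hzero : ∀ w : V, (∀ u ∈ R.UN, ρ u w = w) → φ w = 0 → w = 0 := by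
    intro w hw h0
    refine (Module.forall_dual_apply_eq_zero_iff k w).1 fun f => ?_
    have hf : f ∈ Submodule.span k {y | ∃ u ∈ R.UN, y = ρ.dual u φ} := by rw [hspan]; trivial
    induction hf using Submodule.span_induction with
    | mem y hy =>
      obtain ⟨u, hu, rfl⟩ := hy
      rw [show (ρ.dual u φ) w = φ (ρ u⁻¹ w) by rfl, hw _ (inv_mem hu), h0]
    | zero => rfl
    | add a b _ _ ha hb => rw [LinearMap.add_apply, ha, hb, add_zero]
    | smul t a _ ha => rw [LinearMap.smul_apply, ha, smul_zero]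
  have hinj : ∀ w : V, ρ (n : G) w = 0 → w = 0 := fun w h => by
    have := congrArg (ρ (n : G)⁻¹) h
    rwa [← Module.End.mul_apply, ← map_mul, inv_mul_cancel, map_one, Module.End.one_apply, map_zero] at this
  have hne : φ (ρ (n : G) v) ≠ 0 := fun h => hv0 (hinj _ (hzero _ (hfix v hv) h))
  refine ⟨φ (ρ (n : G) v') * (φ (ρ (n : G) v))⁻¹, sub_eq_zero.1 (hinj _ ?_)⟩
  refine hzero _ (fun u hu => ?_) ?_
  · rw [map_sub, map_sub, map_smul, map_smul, hfix v hv u hu, hfix v' hv' u hu]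
  · rw [map_sub, map_sub, map_smul, map_smul, smul_eq_mul, mul_assoc, inv_mul_cancel₀ hne, mul_one, sub_self]

/-- a simple module has only one weight -/
theorem weight_unique [Finite F] [IsAlgClosed k] (p : ℕ) [Fact p.Prime] [CharP F p] [CharP k p]
    [FiniteDimensional k V] (hirr : NoInvSub ρ) {v v' : V} (hv0 : v ≠ 0) (hv0' : v' ≠ 0)
    {χ χ' : ↥R.HS →* kˣ} {c c' : Fin D.rank → Bool} (hw : R.IsWeight ρ v χ c) (hw' : R.IsWeight ρ v' χ' c') :
    χ = χ' ∧ c = c' := by
  obtain ⟨a, rfl⟩ := R.fixed_line ρ p hirr hv0 hw.unip hw'.unip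
  refine ⟨MonoidHom.ext fun h => Units.ext (smul_left_injective k hv0' ?_), funext fun i => ?_⟩
  · show (χ h : k) • (a • v) = (χ' h : k) • (a • v)
    rw [← hw'.torus h, map_smul, hw.torus, smul_comm]
  · have h1 : R.tI ρ i (a • v) = a • R.tI ρ i v := by
      have := Fintype.ofFinite F
      simp [tI, finsum_eq_sum_of_fintype, Finset.smul_sum]
    rw [hw'.eig, hw.eig, smul_comm a] at h1
    have h2 : (if c' i = true then (-1 : k) else 0) = if c i = true then (-1 : k) else 0 :=
      smul_left_injective k hv0' h1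
    by_cases hc : c i <;> by_cases hc' : c' i <;> simp_all

/-- a weight vector in a product of two simple modules generates a proper part -/
theorem not_mem_span_pair [Finite F] [IsAlgClosed k] (p : ℕ) [Fact p.Prime] [CharP F p] [CharP k p]
    (hirr : NoInvSub ρ) {v : V} (hv0 : v ≠ 0) {χ : ↥R.HS →* kˣ} {c : Fin D.rank → Bool}
    (hw : R.IsWeight ρ v χ c) {V' : Type*} [AddCommGroup V'] [Module k V'] (ρ' : Representation k G V')
    (hirr' : NoInvSub ρ') {v' : V'} (hv0' : v' ≠ 0) (hw' : R.IsWeight ρ' v' χ c) :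
    ((v, (0 : V')) : V × V') ∉ Submodule.span k {y | ∃ u ∈ R.UN, y = (ρ u v, ρ' u v')} := by
  obtain ⟨φ, hφ, hφv⟩ := R.exists_functional ρ p hirr hv0 hw
  obtain ⟨φ', hφ', hφv'⟩ := R.exists_functional ρ' p hirr' hv0' hw'
  intro h
  have key : ∀ y ∈ Submodule.span k {y | ∃ u ∈ R.UN, y = (ρ u v, ρ' u v')}, φ y.1 = φ' y.2 := by
    intro y hy
    induction hy using Submodule.span_induction with
    | mem y hy => obtain ⟨u, hu, rfl⟩ := hy; rw [hφ u hu, hφ' u hu, hφv, hφv']
    | zero => simp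
    | add a b _ _ ha hb => simp [map_add, ha, hb]
    | smul t a _ ha => simp [map_smul, ha]
  have := key _ h
  rw [hφv, map_zero] at this
  exact one_ne_zero this

end Rel

end CfsgLib.Lie.Chev
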