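/-
Every weight occurs in the regular module.
-/
import Cfsg.Agent.Lib.Lie.Rel.Modular.Simple

set_option autoImplicit false

namespace CfsgLib.Lie.Chev

open Cfsg.Lie (ChevalleyDatum)
open CfsgLib.Lie.Exchange

section

/-- the left regular representation on functions -/
def funRep (k G : Type*) [Field k] [Group G] : Representation k G (G → k) where
  toFun g :=
    { toFun := fun f x => f (g⁻¹ * x)
      map_add' := fun _ _ => rfl
      map_smul' := fun _ _ => rfl }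
  map_one' := by ext f x; simp
  map_mul' a b := by ext f x; simp [mul_assoc]

theorem funRep_apply (k : Type*) {G : Type*} [Field k] [Group G] (g : G) (f : G → k) (x : G) :
    funRep k G g f x = f (g⁻¹ * x) := rfl

end

namespace Rel

variable {D : ChevalleyDatum} {X : Aux} {F : Type*} [Field F] {G : Type*} [Group G] (R : Rel D X F G)
  {k : Type*} [Field k]

/-- the coroot tori of a set of simple roots -/
def HJ (J : Set ℕ) : Subgroup G :=
  Subgroup.closure {g | ∃ (j : Fin D.rank) (c : F), (j : ℕ) ∈ J ∧ c ≠ 0 ∧ g = R.he (D.simple j) c}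

/-- the subgroup generated by `U` and some negative simple root groups -/
def PP (J : Set ℕ) : Subgroup G :=
  R.UP ⊔ Subgroup.closure {g | ∃ (j : Fin D.rank) (t : F), (j : ℕ) ∈ J ∧ g = R.xe (D.neg (D.simple j)) t}

/-- the monomial part of `PP` -/
def NP (J : Set ℕ) : Subgroup G := R.HJ J ⊔ R.NJ J

include R

theorem HJ_le_HS (J : Set ℕ) : R.HJ J ≤ R.HS :=
  (Subgroup.closure_le _).2 (by rintro _ ⟨j, c, -, hc, rfl⟩; exact R.he_mem_HS j hc)

theorem NJ_le_NS (J : Set ℕ) : R.NJ J ≤ R.NS :=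
  (Subgroup.closure_le _).2 (by rintro _ ⟨j, -, rfl⟩; exact R.ne_simple_mem_NS j one_ne_zero)

theorem NP_le_NS (J : Set ℕ) : R.NP J ≤ R.NS := sup_le ((R.HJ_le_HS J).trans R.HS_le_NS) (R.NJ_le_NS J)

theorem he_mem_HJ {J : Set ℕ} {j : Fin D.rank} (hj : (j : ℕ) ∈ J) {c : F} (hc : c ≠ 0) :
    R.he (D.simple j) c ∈ R.HJ J := Subgroup.subset_closure ⟨j, c, hj, hc, rfl⟩

theorem ne_conj_HJ {J : Set ℕ} {j : Fin D.rank} (hj : (j : ℕ) ∈ J) {h : G} (hh : h ∈ R.HJ J) :
    R.ne (D.simple j) 1 * h * (R.ne (D.simple j) 1)⁻¹ ∈ R.HJ J := by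
  induction hh using Subgroup.closure_induction with
  | mem x hx =>
    obtain ⟨t, c, ht, hc, rfl⟩ := hx
    obtain ⟨g, hg, hM⟩ : ∃ g, g = R.he (D.simple t) c ∧ R.IsMon g⁻¹ 1 fun r => c⁻¹ ^ D.cartan t r := by
      refine ⟨_, rfl, ?_⟩
      have := R.isMon_inv (R.isMon_he_simple t hc)
      simpa [inv_one, inv_zpow] using this
    have h1 := IsMon.conj_ne R hM (R.sroot j) 1
    simp only [Equiv.Perm.one_apply, sroot, mul_one, inv_inv] at h1
    rw [← hg, show R.ne (D.simple j) 1 * g * (R.ne (D.simple j) 1)⁻¹ =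
      g * ((g⁻¹ * R.ne (D.simple j) 1 * g) * (R.ne (D.simple j) 1)⁻¹) by group, h1,
      R.ne_eq_he_mul _ (c⁻¹ ^ _), mul_inv_cancel_right]
    exact mul_mem (hg ▸ R.he_mem_HJ ht hc) (R.he_mem_HJ hj (zpow_ne_zero _ (inv_ne_zero hc)))
  | one => simp
  | mul a b _ _ ha hb =>
    have := mul_mem ha hb
    simpa [mul_assoc] using this
  | inv a _ ha =>
    have := inv_mem ha
    simpa [mul_assoc] using this

/-- products of words with trivial image in the Weyl group lie in the coroot tori -/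
theorem word_mem_HJ {J : Set ℕ} : ∀ (N : ℕ) (l : List (Fin D.rank)), l.length ≤ N → (∀ j ∈ l, (j : ℕ) ∈ J) →
    wprod R.qgen l = 1 → ((l.map R.nS).prod : G) ∈ R.HJ J := by
  have hnS : ∀ (l : List (Fin D.rank)), R.qmk (l.map R.nS).prod = wprod R.qgen l := fun l => by
    rw [map_list_prod, List.map_map]; rfl
  have hsplit : ∀ (pre : List (Fin D.rank)) (t : Fin D.rank),
      ¬ half D ≤ (R.qact (wprod R.qgen pre) (R.sroot t) : ℕ) →
      ∃ a x b, pre = a ++ x :: b ∧ R.qact (wprod R.qgen b) (R.sroot t) = R.sroot x := by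
    intro pre t h
    induction pre with
    | nil => rw [wprod_nil, map_one, Equiv.Perm.one_apply] at h; exact absurd (R.sroot_pos t) h
    | cons y pre ih =>
      by_cases hp : half D ≤ (R.qact (wprod R.qgen pre) (R.sroot t) : ℕ)
      · refine ⟨[], y, pre, rfl, by_contra fun hne => h ?_⟩
        rw [wprod_cons, R.qact_mul_apply, R.qact_qgen]
        exact R.wperm_pos y _ hp hne
      · obtain ⟨a, x, b, rfl, e⟩ := ih hp
        exact ⟨y :: a, x, b, rfl, e⟩
  have hred : ∀ l : List (Fin D.rank), (∀ pre t suf, l = pre ++ t :: suf →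
      half D ≤ (R.qact (wprod R.qgen pre) (R.sroot t) : ℕ)) → R.invN (wprod R.qgen l) = l.length := by
    intro l
    induction l using List.reverseRecOn with
    | nil => intro _; rw [wprod_nil]; exact R.invN_one
    | append_singleton l t ih =>
      intro h
      have h1 := ih fun pre t' suf e => h pre t' (suf ++ [t]) (by rw [e, List.append_assoc]; rfl)
      have h2 := h l t [] rfl
      have h3 := R.invN_mul_simple (u := wprod R.qgen l * R.qgen t) (k := t) (by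
        rw [R.qact_mul_apply, R.qact_qgen, R.wperm_sroot, R.qact_negF, R.negF_pos_iff, not_not]
        exact h2)
      rw [R.qgen_genInv.cancel_right, h1] at h3
      rw [wprod_append, wprod_cons, wprod_nil, mul_one, h3, List.length_append]
      rfl
  intro N
  induction N with
  | zero =>
    intro l hl _ _
    rw [List.eq_nil_of_length_eq_zero (Nat.le_zero.1 hl)]
    simp
  | succ N ih =>
    intro l hl hJ hw
    by_cases hl0 : l = []
    · subst hl0; simp
    obtain ⟨pre, t, suf, rfl, hneg⟩ : ∃ pre t suf, l = pre ++ t :: suf ∧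
        ¬ half D ≤ (R.qact (wprod R.qgen pre) (R.sroot t) : ℕ) := by
      by_contra hc
      push Not at hc
      have := hred l hc
      rw [hw, R.invN_one] at this
      exact hl0 (List.eq_nil_of_length_eq_zero this.symm)
    obtain ⟨a, x, b, rfl, e⟩ := hsplit pre t hneg
    obtain ⟨α, hα⟩ := R.isMon_nsPerm (b.map R.nS).prod
    have hσ : R.nsPerm (b.map R.nS).prod (R.sroot t) = R.sroot x := by
      rw [← R.qact_qmk, hnS, e]
    have hc := IsMon.conj_ne R hα (R.sroot t) 1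
    rw [hσ, mul_one] at hc
    have hJx : (x : ℕ) ∈ J := hJ x (by simp)
    have hkey : R.ne (D.simple x) 1 * ((b.map R.nS).prod : R.NS) * R.ne (D.simple t) 1 =
        R.he (D.simple x) (α (R.sroot t))⁻¹ * R.he (D.simple x) (-1) * ((b.map R.nS).prod : R.NS) := by
      rw [show R.ne (D.simple x) 1 * ((b.map R.nS).prod : R.NS) * R.ne (D.simple t) 1 =
        R.ne (D.simple x) 1 * (((b.map R.nS).prod : R.NS) * R.ne (R.sroot t) 1 * ((b.map R.nS).prod : G)⁻¹) *
          ((b.map R.nS).prod : R.NS) by show _ = R.ne (D.simple x) 1 * (_ * R.ne (D.simple t) 1 * _) * _; group, hc]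
      show R.ne (D.simple x) 1 * R.ne (D.simple x) (α (R.sroot t)) * _ = _
      rw [R.ne_eq_he_mul _ (α (R.sroot t)), ← mul_assoc (R.ne (D.simple x) 1),
        show R.ne (D.simple x) 1 * R.he (D.simple x) (α (R.sroot t)) =
          R.he (D.simple x) (α (R.sroot t))⁻¹ * R.ne (D.simple x) 1 from R.ne_one_mul_he (R.sroot x) (hα _).1,
        mul_assoc _ (R.ne (D.simple x) 1) (R.ne (D.simple x) 1),
        show R.ne (D.simple x) 1 * R.ne (D.simple x) 1 = R.he (D.simple x) (-1) from R.ne_sq (R.sroot x)]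
    have hA : ∀ a : List (Fin D.rank), (∀ j ∈ a, (j : ℕ) ∈ J) → ∀ h ∈ R.HJ J,
        ((a.map R.nS).prod : G) * h * ((a.map R.nS).prod : G)⁻¹ ∈ R.HJ J := by
      intro a
      induction a with
      | nil => intro _ h hh; simpa using hh
      | cons y a iha =>
        intro hy h hh
        have h1 := R.ne_conj_HJ (hy y (by simp)) (iha (fun j hj => hy j (by simp [hj])) h hh)
        rw [List.map_cons, List.prod_cons, Subgroup.coe_mul, show ((R.nS y : R.NS) : G) = R.ne (D.simple y) 1 from rfl]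
        refine (congrArg (· ∈ R.HJ J) ?_).mp h1
        group
    have hlen : (a ++ b ++ suf).length ≤ N := by
      simp only [List.length_append, List.length_cons] at hl ⊢
      omega
    have hJ' : ∀ j ∈ a ++ b ++ suf, (j : ℕ) ∈ J := fun j hj => hJ j (by
      simp only [List.mem_append, List.mem_cons] at hj ⊢; tauto)
    have hw' : wprod R.qgen (a ++ b ++ suf) = 1 := by
      rw [← hw]
      simp only [wprod_append, wprod_cons]
      have hq := R.rootPerm.conj (wprod R.qgen b) t x e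
      have h4 : R.qgen x * (wprod R.qgen b * R.qgen t) = wprod R.qgen b := by
        rw [mul_inv_eq_iff_eq_mul.1 hq, R.qgen_genInv.cancel]
      conv_lhs => rw [← h4]
      simp only [mul_assoc]
    have hrec := ih _ hlen hJ' hw'
    have hh1 := mul_mem (R.he_mem_HJ hJx (inv_ne_zero (hα (R.sroot t)).1))
      (R.he_mem_HJ (c := (-1 : F)) hJx (by simp))
    have hfin := mul_mem (hA a (fun j hj => hJ j (by simp [hj])) _ hh1) hrec
    simp only [List.map_append, List.map_cons, List.prod_append, List.prod_cons, Subgroup.coe_mul] at hfin ⊢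
    refine (congrArg (· ∈ R.HJ J) ?_).mp hfin
    rw [show ((R.nS x : R.NS) : G) = R.ne (D.simple x) 1 from rfl,
      show ((R.nS t : R.NS) : G) = R.ne (D.simple t) 1 from rfl]
    calc _ = ((a.map R.nS).prod : G) * (R.he (D.simple x) (α (R.sroot t))⁻¹ * R.he (D.simple x) (-1) *
          ((b.map R.nS).prod : G)) * ((suf.map R.nS).prod : G) := by group
      _ = _ := by rw [← hkey]; group

/-- the monomial part meets the torus in the coroot tori -/
theorem NP_inf_HS {J : Set ℕ} {n : G} (hn : n ∈ R.NP J) (hh : n ∈ R.HS) : n ∈ R.HJ J := by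
  obtain ⟨l, hl, h, hhJ, e⟩ : ∃ l : List (Fin D.rank), (∀ j ∈ l, (j : ℕ) ∈ J) ∧ ∃ h ∈ R.HJ J,
      n = h * ((l.map R.nS).prod : G) := by
    unfold NP at hn
    rw [← Subgroup.closure_eq (R.HJ J), NJ, ← Subgroup.closure_union] at hn
    clear hh
    induction hn using Subgroup.closure_induction_left with
    | one => exact ⟨[], by simp, 1, one_mem _, by simp⟩
    | mul_left x hx y _ ih =>
      obtain ⟨l, hl, h, hh, rfl⟩ := ih
      rcases hx with hx | ⟨j, hj, rfl⟩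
      · exact ⟨l, hl, x * h, mul_mem hx hh, by rw [mul_assoc]⟩
      · refine ⟨j :: l, by simpa [hj] using hl, _, R.ne_conj_HJ hj hh, ?_⟩
        rw [List.map_cons, List.prod_cons, Subgroup.coe_mul, show ((R.nS j : R.NS) : G) = R.ne (D.simple j) 1 from rfl]
        group
    | inv_mul_cancel x hx y _ ih =>
      obtain ⟨l, hl, h, hh, rfl⟩ := ih
      rcases hx with hx | ⟨j, hj, rfl⟩
      · exact ⟨l, hl, x⁻¹ * h, mul_mem (inv_mem hx) hh, by rw [mul_assoc]⟩
      · refine ⟨j :: l, by simpa [hj] using hl, (R.he (D.simple j) (-1))⁻¹ * (R.ne (D.simple j) 1 * h *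
          (R.ne (D.simple j) 1)⁻¹), mul_mem (inv_mem (R.he_mem_HJ hj (by simp))) (R.ne_conj_HJ hj hh), ?_⟩
        rw [List.map_cons, List.prod_cons, Subgroup.coe_mul, show ((R.nS j : R.NS) : G) = R.ne (D.simple j) 1 from rfl,
          show R.he (D.simple j) (-1) = R.ne (D.simple j) 1 * R.ne (D.simple j) 1 from (R.ne_sq (R.sroot j)).symm]
        group
  subst e
  refine mul_mem hhJ (R.word_mem_HJ l.length l le_rfl hl ?_)
  have h1 := mul_mem (inv_mem (R.HJ_le_HS J hhJ)) hh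
  rw [inv_mul_cancel_left] at h1
  have := (R.qmk_eq_one (g := (l.map R.nS).prod)).2 h1
  rwa [map_list_prod, List.map_map] at this

/-- the elements of `PP` are in normal form -/
theorem exists_of_mem_PP {J : Set ℕ} {g : G} (hg : g ∈ R.PP J) :
    ∃ u ∈ R.UP, ∃ n ∈ R.NP J, ∃ u' ∈ R.UP, g = u * n * u' := by
  let S : Set G := {g | ∃ u ∈ R.UP, ∃ n ∈ R.NP J, ∃ u' ∈ R.UP, g = u * n * u'}
  have hUP : ∀ v ∈ R.UP, ∀ y ∈ S, v * y ∈ S := by
    rintro v hv y ⟨u, hu, n, hn, u', hu', rfl⟩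
    exact ⟨v * u, mul_mem hv hu, n, hn, u', hu', by group⟩
  have hHJ : ∀ h ∈ R.HJ J, ∀ y ∈ S, h * y ∈ S := by
    rintro h hh y ⟨u, hu, n, hn, u', hu', rfl⟩
    refine ⟨h * u * h⁻¹, ?_, h * n, mul_mem (Subgroup.mem_sup_left hh) hn, u', hu', by group⟩
    exact (Subgroup.mem_normalizer_iff.1 (R.HS_le_normalizer_US _ (R.HJ_le_HS J hh)) u).1 hu
  have hne : ∀ (j : Fin D.rank), (j : ℕ) ∈ J → ∀ y ∈ S, R.ne (D.simple j) 1 * y ∈ S := by
    intro j hj y hy
    obtain ⟨u, hu, n, hn, u', hu', rfl⟩ := hy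
    obtain ⟨v, hv, b, rfl⟩ := R.exists_UP_split j hu
    have hnj : R.ne (D.simple j) 1 ∈ R.NP J := Subgroup.mem_sup_right (Subgroup.subset_closure ⟨j, hj, rfl⟩)
    rw [show R.ne (D.simple j) 1 * (v * R.xe (D.simple j) b * n * u') = (R.ne (D.simple j) 1 * v *
      (R.ne (D.simple j) 1)⁻¹) * (R.ne (D.simple j) 1 * R.xe (D.simple j) b * n * u') by group]
    refine hUP _ (R.US_mono (R.restSet_subset j) (R.ne_conj_rest j hv)) _ ?_
    have move : ∀ (m : R.NS) (s : F), half D ≤ ((R.nsPerm m)⁻¹ (R.sroot j) : ℕ) →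
        ∃ w ∈ R.UP, R.xe (D.simple j) s * (m : G) = (m : G) * w := by
      intro m s hpos
      obtain ⟨α, hα⟩ := R.isMon_nsPerm m
      obtain ⟨β, hβ⟩ : ∃ β, β = (R.nsPerm m)⁻¹ (R.sroot j) := ⟨_, rfl⟩
      have h := (hα β).2.2.2 ((α β)⁻¹ * s)
      rw [mul_inv_cancel_left₀ (hα β).1,
        show R.nsPerm m β = R.sroot j from hβ ▸ (R.nsPerm m).apply_symm_apply _] at h
      refine ⟨_, R.xe_mem_US (S := posSet D) (r := β) (hβ ▸ hpos) ((α β)⁻¹ * s), ?_⟩
      show R.xe (R.sroot j : ℕ) s * (m : G) = _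
      rw [← h]; group
    by_cases hpos : half D ≤ ((R.nsPerm ⟨n, R.NP_le_NS J hn⟩)⁻¹ (R.sroot j) : ℕ)
    · obtain ⟨w, hw, e⟩ := move _ b hpos
      refine ⟨1, one_mem _, R.ne (D.simple j) 1 * n, mul_mem hnj hn, w * u', mul_mem hw hu', ?_⟩
      rw [mul_assoc (R.ne _ 1) (R.xe _ b), e]; group
    by_cases hb : b = 0
    · subst hb
      exact ⟨1, one_mem _, R.ne (D.simple j) 1 * n, mul_mem hnj hn, u', hu', by rw [R.xe_zero]; group⟩
    obtain ⟨m, hm⟩ : ∃ m, m = R.nS j * ⟨n, R.NP_le_NS J hn⟩ := ⟨_, rfl⟩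
    have hpos' : half D ≤ ((R.nsPerm m)⁻¹ (R.sroot j) : ℕ) := by
      rw [hm, map_mul, R.nsPerm_nS, mul_inv_rev, inv_eq_of_mul_eq_one_left (R.wperm_mul_self j),
        Equiv.Perm.mul_apply, R.wperm_sroot, ← map_inv, R.nsPerm_negF, R.negF_pos_iff, map_inv]
      exact hpos
    obtain ⟨w, hw, e⟩ := move m (-b⁻¹) hpos'
    have hm' : (m : G) = R.ne (D.simple j) 1 * n := by rw [hm]; rfl
    rw [hm'] at e
    have h0 := R.ne_conj_xe_simple j b
    rw [R.xe_neg_eq _ hb, R.ne_eq_he_mul _ b⁻¹, mul_inv_eq_iff_eq_mul] at h0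
    refine ⟨R.xe (D.simple j) (-b⁻¹), R.xe_mem_US (S := posSet D) (r := R.sroot j) (R.sroot_pos j) _,
      R.he (D.simple j) b⁻¹ * R.ne (D.simple j) 1 * (R.ne (D.simple j) 1 * n),
      mul_mem (mul_mem (Subgroup.mem_sup_left (R.he_mem_HJ hj (inv_ne_zero hb))) hnj) (mul_mem hnj hn),
      w * u', mul_mem hw hu', ?_⟩
    rw [h0]
    calc _ = R.xe (D.simple j) (-b⁻¹) * R.he (D.simple j) b⁻¹ * R.ne (D.simple j) 1 *
          (R.xe (D.simple j) (-b⁻¹) * (R.ne (D.simple j) 1 * n)) * u' := by group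
      _ = _ := by rw [e]; group
  have hX : ∀ (j : Fin D.rank) (t : F), (j : ℕ) ∈ J → ∀ y ∈ S, R.xe (D.neg (D.simple j)) t * y ∈ S := by
    intro j t hj y hy
    by_cases ht : t = 0
    · rw [ht, R.xe_zero, one_mul]; exact hy
    have e0 := R.xe_neg_eq (D.simple j) (t := -t) (neg_ne_zero.2 ht)
    rw [_root_.neg_neg, R.ne_eq_he_mul _ (-t)⁻¹] at e0
    have hx : R.xe (D.simple j) (-(-t)⁻¹) ∈ R.UP :=
      R.xe_mem_US (S := posSet D) (r := R.sroot j) (R.sroot_pos j) _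
    rw [e0, mul_assoc, mul_assoc (R.xe (D.simple j) _) (_ * _)]
    refine hUP _ hx _ ?_
    rw [mul_assoc]
    exact hHJ _ (R.he_mem_HJ hj (inv_ne_zero (neg_ne_zero.2 ht))) _ (hne j hj _ (hUP _ hx _ hy))
  have hone : (1 : G) ∈ S := ⟨1, one_mem _, 1, one_mem _, 1, one_mem _, by group⟩
  show g ∈ S
  unfold PP at hg
  rw [← Subgroup.closure_eq R.UP, ← Subgroup.closure_union] at hg
  induction hg using Subgroup.closure_induction_left with
  | one => exact hone
  | mul_left x hx y _ ih =>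
    rcases hx with hx | ⟨j, t, hj, rfl⟩
    · exact hUP x hx _ ih
    · exact hX j t hj _ ih
  | inv_mul_cancel x hx y _ ih =>
    rcases hx with hx | ⟨j, t, hj, rfl⟩
    · exact hUP _ (inv_mem hx) _ ih
    · rw [← R.xe_neg]; exact hX j _ hj _ ih

theorem PP_inf_HS {J : Set ℕ} {g : G} (hg : g ∈ R.PP J) (hh : g ∈ R.HS) : g ∈ R.HJ J := by
  obtain ⟨u, hu, n, hn, u', hu', rfl⟩ := R.exists_of_mem_PP hg
  have h1 : u * n * u' ∈ R.cl (R.qmk ⟨n, R.NP_le_NS J hn⟩) :=
    R.mul_mem_cl (n := ⟨n, R.NP_le_NS J hn⟩) (R.UP_le_BS hu) (R.UP_le_BS hu')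
  have hnH : n ∈ R.HS :=
    (R.qmk_eq_one (g := ⟨n, R.NP_le_NS J hn⟩)).1 (R.cl_inj h1 (R.mem_cl_one.2 (R.HS_le_BS hh)))
  have h2 : u * (n * u' * n⁻¹) ∈ R.UP :=
    mul_mem hu ((Subgroup.mem_normalizer_iff.1 (R.HS_le_normalizer_US _ hnH) u').1 hu')
  have h3 : u * (n * u' * n⁻¹) ∈ R.HS := by
    have := mul_mem hh (inv_mem hnH)
    simpa [mul_assoc] using this
  have h4 := (Subgroup.eq_bot_iff_forall _).1 R.UP_inf_HS _ ⟨h2, h3⟩
  rw [show u * n * u' = u * (n * u' * n⁻¹) * n by group, h4, one_mul]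
  exact R.NP_inf_HS hn hnH

theorem PP_le_PJ (J : Set ℕ) : R.PP J ≤ R.PJ J := by
  refine sup_le (R.UP_le_BS.trans le_sup_left) ((Subgroup.closure_le _).2 ?_)
  rintro _ ⟨j, t, hj, rfl⟩
  have h0 := R.ne_conj_xe_simple j (-t)
  rw [_root_.neg_neg] at h0
  rw [SetLike.mem_coe, ← h0]
  have hn : R.ne (D.simple j) 1 ∈ R.PJ J := Subgroup.mem_sup_right (Subgroup.subset_closure ⟨j, hj, rfl⟩)
  exact mul_mem (mul_mem hn (Subgroup.mem_sup_left (R.UP_le_BS
    (R.xe_mem_US (S := posSet D) (r := R.sroot j) (R.sroot_pos j) _)))) (inv_mem hn)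

theorem HS_normalizes_PP (J : Set ℕ) {h g : G} (hh : h ∈ R.HS) (hg : g ∈ R.PP J) :
    h * g * h⁻¹ ∈ R.PP J := by
  have key : R.PP J ≤ (R.PP J).comap (MulAut.conj h).toMonoidHom := by
    refine sup_le (fun u hu => Subgroup.mem_sup_left
      ((Subgroup.mem_normalizer_iff.1 (R.HS_le_normalizer_US _ hh) u).1 hu)) ((Subgroup.closure_le _).2 ?_)
    rintro _ ⟨j, t, hj, rfl⟩
    obtain ⟨a, ha⟩ := R.isMon_of_mem_HS hh
    have h5 := (ha (R.negF (R.sroot j))).2.2.2 t
    rw [Equiv.Perm.one_apply] at h5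
    exact Subgroup.mem_sup_right (Subgroup.subset_closure ⟨j, a (R.negF (R.sroot j)) * t, hj, h5⟩)
  exact key hg

/-- the longest element of a parabolic permutes the negatives of its simple roots -/
theorem qact_wMax_sroot (K : Set ℕ) {i : Fin D.rank} (hi : (i : ℕ) ∈ K) :
    ∃ t : Fin D.rank, (t : ℕ) ∈ K ∧ R.qact (R.wMax K) (R.sroot i) = R.negF (R.sroot t) := by
  classical
  obtain ⟨r, hr⟩ : ∃ r, r = R.negF (R.qact (R.wMax K) (R.sroot i)) := ⟨_, rfl⟩
  have hrpos : half D ≤ (r : ℕ) := by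
    rw [hr, R.negF_pos_iff]; exact R.wMax_isMax K i hi
  have hrsub : r ∈ subSet D X K := by
    rw [hr]; exact R.negF_mem_sub K (R.qact_mem_sub (R.wMax_mem K) (R.sroot_mem_sub K hi))
  have hback : R.qact (R.wMax K) r = R.negF (R.sroot i) := by
    rw [hr, R.qact_negF, ← R.qact_mul_apply, R.wMax_mul_self, map_one, Equiv.Perm.one_apply]
  have hle : ∀ t : Fin D.rank, (t : ℕ) ∈ K → ∑ m : Fin D.rank, X.coef m (R.qact (R.wMax K) (R.sroot t) : ℕ) ≤ -1 := by
    intro t ht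
    obtain ⟨s, hs⟩ : ∃ s, s = R.qact (R.wMax K) (R.sroot t) := ⟨_, rfl⟩
    rw [← hs]
    have hn : ¬ half D ≤ (s : ℕ) := hs ▸ R.wMax_isMax K t ht
    obtain ⟨m, hm⟩ := R.exists_coef_ne_zero s
    have hnn : ∀ m' : Fin D.rank, 0 ≤ -X.coef m' (s : ℕ) := fun m' => by
      have := R.cert.coef_nonneg (R.negF s).2 m'.2 ((R.negF_pos_iff _).2 hn)
      rwa [show (R.negF s : ℕ) = D.neg (s : ℕ) from rfl, R.cert.coef_neg s.2 m'.2] at this
    have h1 := Finset.single_le_sum (fun m' _ => hnn m') (Finset.mem_univ m)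
    rw [Finset.sum_neg_distrib] at h1
    have := hnn m
    omega
  have hsum : ∑ m : Fin D.rank, X.coef m (R.negF (R.sroot i) : ℕ) = -1 := by
    rw [Finset.sum_eq_single i]
    · rw [show (R.negF (R.sroot i) : ℕ) = D.neg (D.simple i) from rfl,
        R.cert.coef_neg (R.cert.simple_lt i.2) i.2, R.cert.coef_simple i.2 i.2, if_pos rfl]
    · intro m _ hm
      rw [show (R.negF (R.sroot i) : ℕ) = D.neg (D.simple i) from rfl,
        R.cert.coef_neg (R.cert.simple_lt i.2) m.2, R.cert.coef_simple i.2 m.2,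
        if_neg (fun e => hm (Fin.ext e)), neg_zero]
    · simp
  rw [← hback, Finset.sum_congr rfl fun m _ => R.isLin_qact _ _ m, Finset.sum_comm] at hsum
  have hu0 : ∀ t : Fin D.rank, 0 ≤ X.coef t (r : ℕ) := fun t => R.cert.coef_nonneg r.2 t.2 hrpos
  have hmul : ∀ t : Fin D.rank, ∑ m : Fin D.rank,
      X.coef t (r : ℕ) * X.coef m (R.qact (R.wMax K) (R.sroot t) : ℕ) ≤ -X.coef t (r : ℕ) := fun t => by
    rw [← Finset.mul_sum]
    by_cases ht : (t : ℕ) ∈ K
    · nlinarith [hle t ht, hu0 t]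
    · rw [hrsub t t.2 ht]; simp
  have := Finset.sum_le_sum (s := Finset.univ) fun t _ => hmul t
  rw [hsum, Finset.sum_neg_distrib] at this
  obtain ⟨t, ht⟩ := R.eq_sroot_of_height hrpos (by omega)
  refine ⟨t, by_contra fun htK => ?_, by rw [← ht, hr, R.negF_negF]⟩
  have h6 := hrsub t t.2 htK
  rw [ht, R.coef_sroot, if_pos rfl] at h6
  exact one_ne_zero h6

/-- a torus element times `PP` -/
theorem exists_character [Finite F] {J : Set ℕ} (ψ : ↥R.HS →* kˣ)
    (hψ : ∀ j : Fin D.rank, (j : ℕ) ∈ J → ∀ a, ψ (R.heHom j a) = 1) :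
    ∃ e : G → k, e 1 = 1 ∧ (∀ g ∈ R.PP J, funRep k G g e = e) ∧
      (∀ h : ↥R.HS, funRep k G (h : G) e = (ψ h : k) • e) ∧ ∀ y, e y ≠ 0 → y ∈ R.PJ J := by
  classical
  have htriv : ∀ h : ↥R.HS, (h : G) ∈ R.PP J → ψ h = 1 := by
    intro h hh
    have h1 : R.HJ J ≤ ψ.ker.map R.HS.subtype := (Subgroup.closure_le _).2 (by
      rintro _ ⟨j, c, hj, hc, rfl⟩
      exact ⟨R.heHom j (Units.mk0 c hc), hψ j hj _, rfl⟩)
    obtain ⟨h', h'', e⟩ := h1 (R.PP_inf_HS hh h.2)
    rw [← Subtype.ext e]; exact h''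
  let e : G → k := fun y => if hy : ∃ h : ↥R.HS, y * (h : G)⁻¹ ∈ R.PP J then ((ψ hy.choose)⁻¹ : kˣ) else 0
  have heq : ∀ y, ∀ h : ↥R.HS, y * (h : G)⁻¹ ∈ R.PP J → e y = ((ψ h)⁻¹ : kˣ) := by
    intro y h hy
    have hex : ∃ h : ↥R.HS, y * (h : G)⁻¹ ∈ R.PP J := ⟨h, hy⟩
    simp only [e, dif_pos hex]
    have h1 := htriv (hex.choose * h⁻¹) (by
      have := mul_mem (inv_mem hex.choose_spec) hy
      simpa [mul_assoc] using this)
    rw [map_mul, map_inv, mul_inv_eq_one] at h1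
    rw [h1]
  have hzero : ∀ y, (∀ h : ↥R.HS, y * (h : G)⁻¹ ∉ R.PP J) → e y = 0 := fun y hy => by
    simp only [e]; rw [dif_neg (fun ⟨h, hh⟩ => hy h hh)]
  refine ⟨e, ?_, fun g hg => funext fun y => ?_, fun h => funext fun y => ?_, fun y hy => ?_⟩
  · rw [heq 1 1 (by simp), map_one]; simp
  · rw [funRep_apply]
    by_cases hy : ∃ h : ↥R.HS, y * (h : G)⁻¹ ∈ R.PP J
    · obtain ⟨h, hh⟩ := hy
      rw [heq y h hh, heq _ h (by rw [mul_assoc]; exact mul_mem (inv_mem hg) hh)]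
    · rw [hzero y (not_exists.1 hy), hzero]
      intro h hh
      exact hy ⟨h, by simpa [mul_assoc] using mul_mem hg hh⟩
  · rw [funRep_apply, Pi.smul_apply, smul_eq_mul]
    by_cases hy : ∃ h : ↥R.HS, y * (h : G)⁻¹ ∈ R.PP J
    · obtain ⟨h', hh⟩ := hy
      rw [heq y h' hh, heq _ (h⁻¹ * h') (by
        have := R.HS_normalizes_PP J (inv_mem h.2) hh
        simpa [mul_assoc] using this), map_mul, map_inv, mul_inv_rev, inv_inv, mul_comm, Units.val_mul]
    · rw [hzero y (not_exists.1 hy), mul_zero, hzero]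
      intro h' hh
      refine hy ⟨h * h', ?_⟩
      have := R.HS_normalizes_PP J h.2 hh
      simpa [mul_assoc] using this
  · obtain ⟨h, hh⟩ : ∃ h : ↥R.HS, y * (h : G)⁻¹ ∈ R.PP J := by
      by_contra hc; exact hy (hzero y (not_exists.1 hc))
    have := mul_mem (R.PP_le_PJ J hh) (show (h : G) ∈ R.PJ J from Subgroup.mem_sup_left (R.HS_le_BS h.2))
    simpa [mul_assoc] using this

/-- every admissible weight occurs -/
theorem exists_weight_vector [Finite F] (p : ℕ) [CharP F p] [CharP k p] (χ : ↥R.HS →* kˣ)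
    (c : Fin D.rank → Bool) (hadm : ∀ i, c i = true → ∀ a, χ (R.heHom i a) = 1) :
    ∃ f : G → k, f ≠ 0 ∧ R.IsWeight (funRep k G) f χ c := by
  classical
  have := R.Finite_of_field
  have := Fintype.ofFinite F
  let J' : Set ℕ := {m | ∃ i : Fin D.rank, (i : ℕ) = m ∧ (∀ a, χ (R.heHom i a) = 1) ∧ c i = false}
  obtain ⟨n, hn⟩ := R.qmk_surjective (R.wMax J' * R.wMax Set.univ)
  have hinv : (R.qmk n)⁻¹ = R.wMax Set.univ * R.wMax J' := by
    rw [hn, mul_inv_rev, R.wMax_inv, R.wMax_inv]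
  have hx_mem : ∀ i : Fin D.rank, (i : ℕ) ∈ J' → ∃ j, R.qact (R.qmk n)⁻¹ (R.sroot i) = R.sroot j := by
    intro i hi
    obtain ⟨t, -, ht⟩ := R.qact_wMax_sroot J' hi
    obtain ⟨j, -, hj⟩ := R.qact_wMax_sroot Set.univ (i := t) trivial
    exact ⟨j, by rw [hinv, R.qact_mul_apply, ht, R.qact_negF, hj, R.negF_negF]⟩
  have hx_not : ∀ i : Fin D.rank, (i : ℕ) ∉ J' → ¬ half D ≤ (R.qact (R.qmk n)⁻¹ (R.sroot i) : ℕ) := by
    intro i hi
    rw [hinv, R.qact_mul_apply]
    refine R.neg_of_sub (R.wMax_isMax _) (R.pos_wJ_of_not_sub (R.wMax_mem J') (R.sroot_pos i) fun hs => ?_)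
      (fun m hm hmu => absurd trivial hmu)
    have h6 := hs i i.2 hi
    rw [R.coef_sroot, if_pos rfl] at h6
    exact one_ne_zero h6
  let J : Set ℕ := {m | ∃ j : Fin D.rank, (j : ℕ) = m ∧ ∃ i : Fin D.rank, (i : ℕ) ∈ J' ∧
    R.qact (R.qmk n) (R.sroot j) = R.sroot i}
  have hmin : R.IsMin J (R.qmk n) := by
    rintro m ⟨j, rfl, i, -, e⟩ h
    rw [show (⟨(j : ℕ), h⟩ : Fin D.rank) = j from rfl, e]
    exact R.sroot_pos i
  let ψ : ↥R.HS →* kˣ := χ.comp (R.hsConj n⁻¹)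
  have hψ : ∀ j : Fin D.rank, (j : ℕ) ∈ J → ∀ a, ψ (R.heHom j a) = 1 := by
    rintro j ⟨j', hj', i, hi, e⟩ a
    obtain rfl := Fin.ext hj'
    obtain ⟨i', hi', hZ, -⟩ := hi
    obtain rfl := Fin.ext hi'
    obtain ⟨α, hα⟩ := R.isMon_nsPerm n
    have h1 := R.he_conj hα (R.sroot j') (c := (a : F)) a.ne_zero
    rw [← R.qact_qmk, e] at h1
    show χ (R.hsConj n⁻¹ (R.heHom j' a)) = 1
    rw [show R.hsConj n⁻¹ (R.heHom j' a) = R.heHom i' a from Subtype.ext (by
      show ((n⁻¹ : R.NS) : G)⁻¹ * R.he (D.simple j') (a : F) * ((n⁻¹ : R.NS) : G) = _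
      rw [InvMemClass.coe_inv, inv_inv]
      exact h1)]
    exact hZ a
  obtain ⟨e, he1, hefix, hetor, hesupp⟩ := R.exists_character (k := k) ψ hψ
  have hH : R.HVec (funRep k G) e ψ := ⟨fun u hu => hefix u (Subgroup.mem_sup_left hu), hetor⟩
  have hf := R.tN_hvec (funRep k G) n hH
  have hchar : ψ.comp (R.hsConj n) = χ := MonoidHom.ext fun h => congrArg χ (Subtype.ext (by
    show ((n⁻¹ : R.NS) : G)⁻¹ * ((n : G)⁻¹ * h * n) * ((n⁻¹ : R.NS) : G) = h
    rw [InvMemClass.coe_inv]; group))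
  rw [hchar] at hf
  have hne : R.tN (funRep k G) n e (n : G) = 1 := by
    have := Fintype.ofFinite ↥(R.US (invSet (R.qact (R.qmk n)⁻¹)))
    rw [tN, finsum_eq_sum_of_fintype, Finset.sum_apply, Finset.sum_eq_single 1]
    · rw [funRep_apply]; simpa using he1
    · intro u _ hu
      by_contra hc
      rw [funRep_apply] at hc
      have hz := hesupp _ hc
      obtain ⟨v, hv, hzv⟩ := R.exists_mem_cl_of_PJ hz
      have h1 := R.mul_cl_min hmin hv (R.coe_mem_cl n) hzv
      have h2 : (n : G) * (((u : G) * n)⁻¹ * n) ∈ R.cl (R.qmk n) := by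
        rw [show (n : G) * (((u : G) * n)⁻¹ * n) = (u : G)⁻¹ * n by group]
        exact R.left_mem_cl (inv_mem (R.UP_le_BS (R.US_mono (invSet_subset _) u.2))) (R.coe_mem_cl n)
      have hv1 : v = 1 := mul_eq_left.1 (R.cl_inj h1 h2)
      rw [hv1, R.mem_cl_one] at hzv
      have h3 : ((n⁻¹ : R.NS) : G) * (u : G)⁻¹ * ((n⁻¹ : R.NS) : G)⁻¹ ∈ R.UN := R.conj_inv (inv_mem (by
        rw [← R.qact_qmk, map_inv]; exact u.2))
      rw [InvMemClass.coe_inv, inv_inv] at h3
      rw [show ((u : G) * n)⁻¹ * n = (n : G)⁻¹ * (u : G)⁻¹ * n by group] at hzv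
      have h4 := R.BS_inf_UN hzv h3
      refine hu (Subtype.ext ?_)
      show (u : G) = 1
      calc (u : G) = ((n : G) * ((n : G)⁻¹ * (u : G)⁻¹ * n) * (n : G)⁻¹)⁻¹ := by group
        _ = 1 := by rw [h4]; group
    · simp
  have hne0 : R.tN (funRep k G) n e ≠ 0 := fun h => by rw [h] at hne; exact zero_ne_one hne
  refine ⟨_, hne0, { toHVec := hf, eig := fun i => ?_, adm := hadm }⟩
  by_cases hi : (i : ℕ) ∈ J'
  · have hi' := hi
    obtain ⟨i', hi'', hZ, hc⟩ := hi'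
    obtain rfl := Fin.ext hi''
    obtain ⟨j, hj⟩ := hx_mem i' hi
    have hj' : R.qact (R.qmk n) (R.sroot j) = R.sroot i' := by rw [← hj, R.qact_inv_apply]
    have hjJ : (j : ℕ) ∈ J := ⟨j, rfl, i', hi, hj'⟩
    rw [R.tI_tN _ i' n e (by rw [hj]; exact R.sroot_pos j)]
    obtain ⟨h'', hh''⟩ : ∃ h'' : ↥R.HS, R.nS i' * n = n * R.nS j * ⟨h'', R.HS_le_NS h''.2⟩ := by
      have hq : R.qmk (R.nS i' * n) = R.qmk (n * R.nS j) := by
        obtain ⟨α, hα⟩ := R.isMon_nsPerm n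
        have h1 := IsMon.conj_ne R hα (R.sroot j) 1
        rw [← R.qact_qmk, hj', mul_one] at h1
        have h2 : R.qmk (n * R.nS j * n⁻¹) = R.qgen i' := by
          rw [← R.qmk_ne i' (hα (R.sroot j)).1]
          exact congrArg R.qmk (Subtype.ext h1)
        rw [map_mul, show R.qmk (R.nS i') = R.qgen i' from rfl, ← h2, ← map_mul, inv_mul_cancel_right]
      refine ⟨⟨((n * R.nS j)⁻¹ * (R.nS i' * n) : R.NS), R.qmk_eq_one.1 (by rw [map_mul, map_inv, hq, inv_mul_cancel])⟩, ?_⟩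
      exact (mul_inv_cancel_left _ _).symm
    rw [hh'', R.tN_torus _ (n * R.nS j) hH, ← R.tN_tI _ n j e (by rw [hj']; exact R.sroot_pos i')]
    have hz : R.tI (funRep k G) j e = 0 := by
      have hfix : ∀ a, funRep k G (R.xe (D.simple j) a * R.ne (D.simple j) 1) e = e := fun a => by
        refine hefix _ (mul_mem (Subgroup.mem_sup_left
          (R.xe_mem_US (S := posSet D) (r := R.sroot j) (R.sroot_pos j) a)) ?_)
        have hx : R.xe (D.simple j) (1 : F) ∈ R.PP J :=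
          Subgroup.mem_sup_left (R.xe_mem_US (S := posSet D) (r := R.sroot j) (R.sroot_pos j) _)
        exact mul_mem (mul_mem hx (Subgroup.mem_sup_right (Subgroup.subset_closure ⟨j, _, hjJ, rfl⟩))) hx
      have hq : (Fintype.card F : k) = 0 :=
        (CharP.cast_eq_zero_iff k p _).2 ((CharP.cast_eq_zero_iff F p _).1 (FiniteField.cast_card_eq_zero F))
      simp only [tI, finsum_eq_sum_of_fintype, hfix, Finset.sum_const, Finset.card_univ]
      rw [← Nat.cast_smul_eq_nsmul k, hq, zero_smul]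
    rw [hz, hc]
    have h0 : R.tN (funRep k G) n (0 : G → k) = 0 := by simp [tN]
    rw [h0]; simp
  · have hi' : half D ≤ (R.qact (R.qmk ((R.nS i)⁻¹ * n))⁻¹ (R.sroot i) : ℕ) := by
      rw [map_mul, map_inv R.qmk, show R.qmk (R.nS i) = R.qgen i from rfl, mul_inv_rev, inv_inv, R.qact_mul_apply,
        R.qact_qgen, R.wperm_sroot, R.qact_negF, R.negF_pos_iff]
      exact hx_not i hi
    have e' := R.tI_tN (funRep k G) i _ e hi'
    rw [mul_inv_cancel_left] at e'
    have hv' := R.tN_hvec (funRep k G) ((R.nS i)⁻¹ * n) hH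
    have h2 := R.tI_tI (funRep k G) p i hv'
    rw [e'] at h2
    have hco : ψ.comp (R.hsConj ((R.nS i)⁻¹ * n)) = (χ.comp (R.hsConj (R.nS i)⁻¹)) := by
      rw [← hchar]
      refine MonoidHom.ext fun h => congrArg ψ (Subtype.ext ?_)
      simp [hsConj, mul_assoc]
    rw [h2, ← R.tVal_conj _ i, hco]
    rw [show (χ.comp (R.hsConj (R.nS i)⁻¹)).comp (R.hsConj (R.nS i)) = χ from
      MonoidHom.ext fun h => congrArg χ (Subtype.ext (by simp [hsConj, mul_assoc]))]
    congr 1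
    unfold tVal
    by_cases hZ : ∀ a, χ (R.heHom i a) = 1
    · have hci : c i = true := by
        cases hci : c i with
        | true => rfl
        | false => exact absurd ⟨i, rfl, hZ, hci⟩ hi
      rw [if_pos hZ, hci]; rfl
    · have hci : c i = false := by
        cases hci : c i with
        | false => rfl
        | true => exact absurd (hadm i hci) hZ
      rw [if_neg hZ, hci]; rfl

end Rel

end CfsgLib.Lie.Chev
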