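/-
The simple factors of the group algebra correspond to the weights.
-/
import Cfsg.Agent.Lib.Lie.Rel.Modular.Exists
import Mathlib.RingTheory.RootsOfUnity.AlgebraicallyClosed
import Mathlib.GroupTheory.FiniteAbelian.Duality
import Mathlib.LinearAlgebra.Matrix.ToLin
import Mathlib.RingTheory.Finiteness.Defs

set_option autoImplicit false

namespace CfsgLib.Lie.Chev

open Cfsg.Lie (ChevalleyDatum)

/-- the module of one factor -/
noncomputable def facRep {k G : Type*} [Field k] [Group G] {n : ℕ} {d : Fin n → ℕ}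
    (ψ : MonoidAlgebra k G →ₐ[k] (Π i, Matrix (Fin (d i)) (Fin (d i)) k)) (δ : Fin n) :
    Representation k G (Fin (d δ) → k) where
  toFun g := Matrix.toLin' (ψ (MonoidAlgebra.single g 1) δ)
  map_one' := by rw [← MonoidAlgebra.one_def, map_one, Pi.one_apply, Matrix.toLin'_one]; rfl
  map_mul' a b := by
    rw [Module.End.mul_eq_comp, ← Matrix.toLin'_mul, ← Pi.mul_apply, ← map_mul, MonoidAlgebra.single_mul_single,
      mul_one]

section

variable {k G : Type*} [Field k] [Group G] {V : Type*} [AddCommGroup V] [Module k V]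

theorem asAlgebraHom_mem (ρ : Representation k G V) (W : Submodule k V)
    (hW : ∀ g, ∀ x ∈ W, ρ g x ∈ W) (a : MonoidAlgebra k G) : ∀ x ∈ W, ρ.asAlgebraHom a x ∈ W := by
  intro x hx
  induction a using MonoidAlgebra.induction_on with
  | of g => rw [MonoidAlgebra.of_apply, Representation.asAlgebraHom_single_one]; exact hW g x hx
  | add a b ha hb => rw [map_add, LinearMap.add_apply]; exact add_mem ha hb
  | smul t a ha => rw [map_smul, LinearMap.smul_apply]; exact W.smul_mem t ha

variable {n : ℕ} {d : Fin n → ℕ} (ψ : MonoidAlgebra k G →ₐ[k] (Π i, Matrix (Fin (d i)) (Fin (d i)) k))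

theorem facRep_asAlgebraHom (δ : Fin n) (a : MonoidAlgebra k G) :
    (facRep ψ δ).asAlgebraHom a = Matrix.toLin' (ψ a δ) := by
  induction a using MonoidAlgebra.induction_on with
  | of g => rw [MonoidAlgebra.of_apply, Representation.asAlgebraHom_single_one]; rfl
  | add a b ha hb => rw [map_add, map_add, ha, hb, Pi.add_apply, map_add]
  | smul t a ha => rw [map_smul, map_smul, ha, Pi.smul_apply, map_smul]

theorem facRep_noInv (hs : Function.Surjective ψ) (δ : Fin n) : NoInvSub (facRep ψ δ) := by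
  classical
  intro W hW
  by_cases h : W = ⊥
  · exact Or.inl h
  refine Or.inr (eq_top_iff.2 fun y _ => ?_)
  obtain ⟨x, hx, hx0⟩ := W.ne_bot_iff.1 h
  obtain ⟨i, hi⟩ : ∃ i, x i ≠ 0 := Function.ne_iff.1 hx0
  obtain ⟨a, ha⟩ := hs (Pi.single δ (Matrix.of fun r c => if c = i then y r * (x i)⁻¹ else 0))
  have h1 := asAlgebraHom_mem _ W hW a x hx
  rw [facRep_asAlgebraHom, ha, Pi.single_eq_same, Matrix.toLin'_apply] at h1
  refine (congrArg (· ∈ W) (funext fun r => ?_)).mp h1
  simp [Matrix.mulVec, dotProduct, hi]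

end

namespace Rel

variable {D : ChevalleyDatum} {X : Aux} {F : Type*} [Field F] {G : Type*} [Group G] (R : Rel D X F G)
  {k : Type*} [Field k] {n : ℕ} {d : Fin n → ℕ} [∀ i, NeZero (d i)]
  (ψ : MonoidAlgebra k G →ₐ[k] (Π i, Matrix (Fin (d i)) (Fin (d i)) k))

/-- admissible weights -/
def Wt : Type _ :=
  {w : (↥R.HS →* kˣ) × (Fin D.rank → Bool) // ∀ i, w.2 i = true → ∀ a, w.1 (R.heHom i a) = 1}

include R

/-- two factors with the same weight coincide -/
theorem eq_of_weight [Finite F] [IsAlgClosed k] (p : ℕ) [Fact p.Prime] [CharP F p] [CharP k p]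
    (hs : Function.Surjective ψ) {δ δ' : Fin n} {χ : ↥R.HS →* kˣ} {c : Fin D.rank → Bool}
    {v₁ : Fin (d δ) → k} {v₂ : Fin (d δ') → k} (hv₁ : v₁ ≠ 0) (hv₂ : v₂ ≠ 0)
    (h₁ : R.IsWeight (facRep ψ δ) v₁ χ c) (h₂' : R.IsWeight (facRep ψ δ') v₂ χ c) : δ = δ' := by
  classical
  have := R.Finite_of_field
  have := Fintype.ofFinite F
  by_contra hne
  refine R.not_mem_span_pair (facRep ψ δ) p (facRep_noInv ψ hs δ) hv₁ h₁ (facRep ψ δ')
    (facRep_noInv ψ hs δ') hv₂ h₂' ?_
  let ρ := (facRep ψ δ).prod (facRep ψ δ')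
  have hw2 : R.IsWeight ρ (v₁, v₂) χ c := by
    refine { unip := fun u hu => ?_, torus := fun h => ?_, eig := fun i => ?_, adm := h₁.adm }
    · exact Prod.ext (h₁.unip u hu) (h₂'.unip u hu)
    · exact Prod.ext (h₁.torus h) (h₂'.torus h)
    · have h1 : R.tI ρ i (v₁, v₂) = (R.tI (facRep ψ δ) i (v₁), R.tI (facRep ψ δ') i (v₂)) := by
        simp only [tI, finsum_eq_sum_of_fintype]
        refine Prod.ext ?_ ?_
        · rw [Prod.fst_sum]; rfl
        · rw [Prod.snd_sum]; rfl
      rw [h1, h₁.eig, h₂'.eig]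
      rfl
  obtain ⟨a, ha⟩ := hs (Pi.single δ 1)
  have h2 := asAlgebraHom_mem ρ _ (fun g => R.span_invariant ρ hw2 g) a (v₁, v₂)
    (Submodule.subset_span ⟨1, one_mem _, by simp⟩)
  have h3 : ∀ b, ρ.asAlgebraHom b (v₁, v₂) =
      ((facRep ψ δ).asAlgebraHom b (v₁), (facRep ψ δ').asAlgebraHom b (v₂)) := by
    intro b
    induction b using MonoidAlgebra.induction_on with
    | of g => simp only [MonoidAlgebra.of_apply, Representation.asAlgebraHom_single_one]; rfl
    | add a b ha hb => simp [ha, hb]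
    | smul t a ha => simp [ha]
  rw [h3, facRep_asAlgebraHom, facRep_asAlgebraHom, ha, Pi.single_eq_same, Pi.single_eq_of_ne (Ne.symm hne),
    Matrix.toLin'_one, map_zero] at h2
  exact h2

theorem card_simple_eq_wt [Finite F] [IsAlgClosed k] (p : ℕ) [Fact p.Prime] [CharP F p] [CharP k p]
    (hs : Function.Surjective ψ) (hn : ∀ x, ψ x = 0 → IsNilpotent x) : n = Nat.card (R.Wt (k := k)) := by
  classical
  have := R.Finite_of_field
  have := Fintype.ofFinite F
  have hex : ∀ δ, ∃ w : R.Wt (k := k), ∃ v, v ≠ 0 ∧ R.IsWeight (facRep ψ δ) v w.1.1 w.1.2 := by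
    intro δ
    have : Nontrivial (Fin (d δ) → k) := inferInstance
    obtain ⟨v, χ, c, hv, hw⟩ := R.exists_weight' (facRep ψ δ) p
    exact ⟨⟨(χ, c), hw.adm⟩, v, hv, hw⟩
  choose wt v hv hwt using hex
  have hinj : Function.Injective wt := fun δ δ' e =>
    R.eq_of_weight ψ p hs (hv δ) (hv δ') (hwt δ) (by rw [e]; exact hwt δ')
  have hsurj : Function.Surjective wt := by
    rintro ⟨⟨χ, c⟩, hadm⟩
    obtain ⟨f, hf0, hf⟩ := R.exists_weight_vector (k := k) p χ c hadm
    have hne : {Q : Submodule k (G → k) | f ∉ Q ∧ ∀ g, ∀ x ∈ Q, funRep k G g x ∈ Q}.Nonempty :=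
      ⟨⊥, by simpa using hf0, fun g x hx => by simp only [Submodule.mem_bot] at hx ⊢; rw [hx, map_zero]⟩
    obtain ⟨Q, ⟨hfQ, hQ⟩, hmax⟩ := wellFounded_gt.has_min _ hne
    let ρ : Representation k G ((G → k) ⧸ Q) :=
      { toFun := fun g => Q.mapQ Q (funRep k G g) (fun x hx => hQ g x hx)
        map_one' := by ext x; simp
        map_mul' := fun a b => by ext x; simp }
    let f' : (G → k) ⧸ Q := Submodule.Quotient.mk f
    have hf' : f' ≠ 0 := fun h => hfQ ((Submodule.Quotient.mk_eq_zero Q).1 h)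
    have hsmall : ∀ W : Submodule k ((G → k) ⧸ Q), W ≠ ⊥ → (∀ g, ∀ x ∈ W, ρ g x ∈ W) → f' ∈ W := by
      intro W hW hWi
      by_contra hfW
      refine hmax (W.comap Q.mkQ) ⟨hfW, fun g x hx => hWi g _ hx⟩ (lt_of_le_of_ne (fun x hx => ?_) fun he => hW ?_)
      · show Q.mkQ x ∈ W
        rw [Submodule.mkQ_apply, (Submodule.Quotient.mk_eq_zero Q).2 hx]; exact zero_mem _
      · refine (Submodule.eq_bot_iff _).2 fun y hy => ?_
        obtain ⟨x, rfl⟩ := Submodule.Quotient.mk_surjective Q y
        exact (Submodule.Quotient.mk_eq_zero Q).2 (he.symm ▸ hy)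
    have hkill : ∀ x, ψ x = 0 → ρ.asAlgebraHom x f' = 0 := by
      intro x hx
      by_contra hne0
      let W : Submodule k ((G → k) ⧸ Q) :=
        LinearMap.range (((LinearMap.applyₗ (R := k) f').comp ρ.asAlgebraHom.toLinearMap).comp
          (LinearMap.mulRight k x))
      have hW : W ≠ ⊥ := (Submodule.ne_bot_iff _).2 ⟨_, ⟨1, rfl⟩, by simpa using hne0⟩
      obtain ⟨a, ha⟩ := hsmall W hW (by
        rintro g _ ⟨a, rfl⟩
        refine ⟨MonoidAlgebra.single g 1 * a, ?_⟩
        simp [mul_assoc, Representation.asAlgebraHom_single_one, Module.End.mul_apply])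
      obtain ⟨m, hm⟩ := hn (a * x) (by rw [map_mul, hx, mul_zero])
      have ha' : ρ.asAlgebraHom (a * x) f' = f' := by simpa using ha
      have hpow : ∀ j : ℕ, ρ.asAlgebraHom ((a * x) ^ j) f' = f' := fun j => by
        induction j with
        | zero => simp
        | succ j ih => rw [pow_succ, map_mul, Module.End.mul_apply, ha', ih]
      exact hf' (by rw [← hpow m, hm, map_zero, LinearMap.zero_apply])
    have heq : ∀ x y, ψ x = ψ y → ρ.asAlgebraHom x f' = ρ.asAlgebraHom y f' := fun x y e => by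
      have := hkill (x - y) (by rw [map_sub, e, sub_self])
      rwa [map_sub, LinearMap.sub_apply, sub_eq_zero] at this
    choose E hE using fun (δ : Fin n) (M : Matrix (Fin (d δ)) (Fin (d δ)) k) => hs (Pi.single δ M)
    obtain ⟨δ, i, hδi⟩ : ∃ δ i, ρ.asAlgebraHom (E δ (Matrix.single i i 1)) f' ≠ 0 := by
      by_contra hc
      push Not at hc
      refine hf' ?_
      have h1 := heq 1 (∑ δ, ∑ i, E δ (Matrix.single i i 1)) (by
        rw [map_one, map_sum, ← Finset.univ_sum_single (1 : Π i, Matrix (Fin (d i)) (Fin (d i)) k)]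
        refine Finset.sum_congr rfl fun δ _ => ?_
        rw [map_sum]
        simp only [hE]
        refine Eq.trans (congrArg _ ?_) (map_sum (AddMonoidHom.single (fun i => Matrix (Fin (d i)) (Fin (d i)) k) δ) _ _)
        ext r c
        rw [Matrix.sum_apply]
        by_cases hrc : r = c
        · subst hrc
          rw [Finset.sum_eq_single r (fun b _ hb => by simp [hb]) (by simp)]
          simp
        · rw [Pi.one_apply, Matrix.one_apply_ne hrc]
          refine (Finset.sum_eq_zero fun b _ => ?_).symm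
          simp only [Matrix.single_apply]
          rw [if_neg]
          rintro ⟨rfl, rfl⟩
          exact hrc rfl)
      rw [map_one, Module.End.one_apply, map_sum, LinearMap.sum_apply] at h1
      rw [h1]
      refine Finset.sum_eq_zero fun δ _ => ?_
      rw [map_sum, LinearMap.sum_apply]
      exact Finset.sum_eq_zero fun i _ => hc δ i
    let T : (Fin (d δ) → k) →ₗ[k] ((G → k) ⧸ Q) :=
      { toFun := fun x => ρ.asAlgebraHom (∑ j, x j • E δ (Matrix.single j i 1)) f'
        map_add' := fun x y => by simp [add_smul, Finset.sum_add_distrib]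
        map_smul' := fun t x => by simp [smul_smul, Finset.smul_sum] }
    have hψb : ∀ x : Fin (d δ) → k, ψ (∑ j, x j • E δ (Matrix.single j i 1)) =
        Pi.single δ (Matrix.of fun r c => if c = i then x r else 0) := by
      intro x
      rw [map_sum]
      simp only [map_smul, hE, ← Pi.single_smul]
      refine Eq.trans (map_sum (AddMonoidHom.single (fun i => Matrix (Fin (d i)) (Fin (d i)) k) δ)
        (fun j => x j • Matrix.single j i 1) Finset.univ).symm (congrArg _ ?_)
      ext r c
      rw [Matrix.sum_apply, Finset.sum_eq_single r (fun b _ hb => by simp [hb]) (by simp)]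
      simp [Matrix.single_apply, eq_comm]
    have hequiv : ∀ g x, T (facRep ψ δ g x) = ρ g (T x) := by
      intro g x
      show ρ.asAlgebraHom _ f' = ρ g (ρ.asAlgebraHom _ f')
      rw [← ρ.asAlgebraHom_single_one g, ← Module.End.mul_apply, ← map_mul]
      refine heq _ _ ?_
      rw [map_mul, hψb, hψb]
      funext δ'
      by_cases hd : δ' = δ
      · subst hd
        rw [Pi.mul_apply, Pi.single_eq_same, Pi.single_eq_same]
        ext r c
        by_cases hc : c = i
        · subst hc
          simp [facRep, Matrix.mul_apply, Matrix.toLin'_apply, Matrix.mulVec, dotProduct]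
        · simp [Matrix.mul_apply, hc]
      · rw [Pi.mul_apply, Pi.single_eq_of_ne hd, Pi.single_eq_of_ne hd, mul_zero]
    have hTi : T (Pi.single i 1) ≠ 0 := by
      show ρ.asAlgebraHom _ f' ≠ 0
      refine fun h => hδi ?_
      rw [← h]
      refine heq _ _ ?_
      rw [hE, hψb]
      congr 1
      ext r c
      by_cases hc : c = i
      · subst hc
        by_cases hr : r = c
        · subst hr; simp
        · simp [Matrix.single_apply, Pi.single_eq_of_ne hr, Ne.symm hr]
      · simp [Matrix.single_apply, hc, Ne.symm hc]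
    have hTinj : ∀ x, T x = 0 → x = 0 := fun x hx => by
      have := (facRep_noInv ψ hs δ (LinearMap.ker T) fun g y hy => by
        rw [LinearMap.mem_ker] at hy ⊢; rw [hequiv, hy, map_zero]).resolve_right fun h => hTi (by
          have : Pi.single i 1 ∈ LinearMap.ker T := h ▸ Submodule.mem_top
          exact this)
      exact (Submodule.mem_bot k).1 (this ▸ LinearMap.mem_ker.2 hx)
    obtain ⟨w, hw⟩ := hsmall (LinearMap.range T)
      ((Submodule.ne_bot_iff _).2 ⟨_, ⟨_, rfl⟩, hTi⟩)
      (by rintro g _ ⟨x, rfl⟩; exact ⟨_, hequiv g x⟩)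
    have heq' : ∀ x y, T x = T y → x = y := fun x y e =>
      sub_eq_zero.1 (hTinj _ (by rw [map_sub, e, sub_self]))
    have hw0 : w ≠ 0 := fun h => hf' (by rw [← hw, h, map_zero])
    have hwW : R.IsWeight (facRep ψ δ) w χ c := by
      refine { unip := fun u hu => heq' _ _ ?_, torus := fun h => heq' _ _ ?_, eig := fun j => heq' _ _ ?_,
               adm := hadm }
      · rw [hequiv, hw]
        exact congrArg (Submodule.Quotient.mk (p := Q)) (hf.unip u hu)
      · rw [hequiv, map_smul, hw]
        exact congrArg (Submodule.Quotient.mk (p := Q)) (hf.torus h)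
      · have h1 : T (R.tI (facRep ψ δ) j w) = Q.mkQ (R.tI (funRep k G) j f) := by
          simp only [tI, finsum_eq_sum_of_fintype, map_sum, hequiv, hw]
          rfl
        rw [h1, hf.eig, map_smul, map_smul, hw]
        rfl
    obtain ⟨h1, h2⟩ := R.weight_unique (facRep ψ δ) p (facRep_noInv ψ hs δ) (hv δ) hw0 (hwt δ) hwW
    exact ⟨δ, Subtype.ext (Prod.ext h1 h2)⟩
  rw [← Nat.card_eq_of_bijective wt ⟨hinj, hsurj⟩, Nat.card_fin]

omit [∀ i, NeZero (d i)] in
theorem card_wt [Finite F] [IsAlgClosed k] (p : ℕ) [CharP F p] [CharP k p]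
    (hbij : Function.Bijective R.torusHom) : Nat.card (R.Wt (k := k)) = Nat.card F ^ D.rank := by
  classical
  let Y := {y : (Fˣ →* kˣ) × Bool // y.2 = true → y.1 = 1}
  let e := MulEquiv.ofBijective R.torusHom hbij
  have he : ∀ (i : Fin D.rank) (a : Fˣ), e.symm (R.heHom i a) = Pi.mulSingle i a := fun i a => by
    rw [MulEquiv.symm_apply_eq, ← R.torusHom_single]; rfl
  let Φ : R.Wt (k := k) → (Fin D.rank → Y) := fun w i =>
    ⟨(w.1.1.comp (R.heHom i), w.1.2 i), fun h => MonoidHom.ext fun a => w.2 i h a⟩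
  have hΦ : Function.Bijective Φ := by
    refine ⟨fun w w' h => ?_, fun y => ?_⟩
    · refine Subtype.ext (Prod.ext ?_ (funext fun i => congrArg (fun t => (t i).1.2) h))
      refine MonoidHom.ext fun h' => ?_
      have h3 : w.1.1.comp e.toMonoidHom = w'.1.1.comp e.toMonoidHom := by
        refine MonoidHom.functions_ext _ _ _ fun i a => ?_
        have := DFunLike.congr_fun (congrArg (fun t => (t i).1.1) h) a
        simpa [Φ, e, R.torusHom_single] using this
      simpa using DFunLike.congr_fun h3 (e.symm h')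
    · let χ : ↥R.HS →* kˣ :=
        (∏ i, (y i).1.1.comp (Pi.evalMonoidHom (fun _ => Fˣ) i)).comp e.symm.toMonoidHom
      have hχ : ∀ i a, χ (R.heHom i a) = (y i).1.1 a := fun i a => by
        simp only [χ, MonoidHom.comp_apply, MulEquiv.coe_toMonoidHom, he, MonoidHom.finsetProd_apply,
          Pi.evalMonoidHom_apply]
        rw [Finset.prod_eq_single i (fun j _ hj => by rw [Pi.mulSingle_eq_of_ne hj, map_one]) (by simp),
          Pi.mulSingle_eq_same]
      refine ⟨⟨(χ, fun i => (y i).1.2), fun i hi a => ?_⟩, funext fun i => Subtype.ext (Prod.ext ?_ rfl)⟩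
      · show χ (R.heHom i a) = 1
        rw [hχ, (y i).2 hi]; rfl
      · exact MonoidHom.ext fun a => hχ i a
  rw [Nat.card_eq_of_bijective Φ hΦ, Nat.card_fun, Nat.card_fin]
  congr 1
  have hY : Y ≃ Option (Fˣ →* kˣ) :=
    { toFun := fun y => if y.1.2 then none else some y.1.1
      invFun := fun o => o.elim ⟨(1, true), fun _ => rfl⟩ fun f => ⟨(f, false), fun h => by simp at h⟩
      left_inv := by
        rintro ⟨⟨f, b⟩, hb⟩
        cases b with
        | false => rfl
        | true => exact Subtype.ext (Prod.ext (hb rfl).symm rfl)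
      right_inv := fun o => by cases o <;> rfl }
  have := Fintype.ofFinite F
  have : NeZero (Monoid.exponent Fˣ : k) := by
    refine ⟨fun h => ?_⟩
    rw [CharP.cast_eq_zero_iff k p] at h
    have h1 : (p : ℕ) ∣ Fintype.card F - 1 := by
      rw [← Fintype.card_units]
      exact h.trans Group.exponent_dvd_card
    have h2 : p ∣ Fintype.card F := (CharP.cast_eq_zero_iff F p _).1 (FiniteField.cast_card_eq_zero F)
    have h3 := Nat.dvd_sub h2 h1
    have h4 : Fintype.card F - (Fintype.card F - 1) = 1 := by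
      have := Fintype.card_pos (α := F); omega
    rw [h4] at h3
    have := CharP.char_is_prime F p
    exact this.ne_one (Nat.dvd_one.1 h3)
  have : Finite (Fˣ →* kˣ) :=
    Finite.of_equiv Fˣ (CommGroup.monoidHom_mulEquiv_of_hasEnoughRootsOfUnity Fˣ k).some.symm.toEquiv
  have hX : Nat.card (Fˣ →* kˣ) = Nat.card Fˣ := CommGroup.card_monoidHom_of_hasEnoughRootsOfUnity Fˣ k
  rw [Nat.card_congr hY, Finite.card_option, hX, Nat.card_units]
  have := Nat.card_pos (α := F)
  omega

end Rel

end CfsgLib.Lie.Chev
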