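/-
`q^l` semisimple classes when the torus map is injective.
-/
import Cfsg.Agent.Lib.Lie.Rel.Modular.Count
import Cfsg.Agent.Lib.Lie.Rel.OrderData
import Cfsg.Agent.Lib.Blocks.Brauer.RegularClasses
import Cfsg.Agent.Lib.ZStar.PrincipalBlock

set_option autoImplicit false

namespace CfsgLib.Lie.Chev

open Cfsg.Lie (ChevalleyDatum)
open Cfsg CfsgLib.Blocks

theorem card_regularClasses {D : ChevalleyDatum} {X : Aux} {F : Type*} [Field F] [Finite F] {G : Type*} [Group G]
    (R : Rel D X F G) (p : ℕ) [hp : Fact p.Prime] [CharP F p] (hbij : Function.Bijective R.torusHom) :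
    Nat.card {c : ConjClasses G // ∃ g : G, ConjClasses.mk g = c ∧ (orderOf g).Coprime p} =
      Nat.card F ^ D.rank := by
  have := R.Finite_of_field
  have := Fintype.ofFinite G
  obtain ⟨M, hM⟩ := CfsgLib.ZStar.exists_isPModular hp.1
  have := hM.2.1.isPrime
  have := charP_residueField hM
  have := CfsgLib.Star.isAlgClosed_res (M := M)
  obtain ⟨Q⟩ := CfsgLib.IBr.nonempty_data (G := G) (M := M)
  have h1 := Q.n_eq_card_regularClasses (p := p) hM
  have h2 := R.card_simple_eq_wt Q.ψ p Q.surj Q.nil
  rw [← R.card_wt (k := Res M) p hbij, ← h2, h1]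
  refine Nat.card_congr (Equiv.subtypeEquivRight fun c => exists_congr fun g => and_congr_right fun _ => ?_)
  rw [Nat.coprime_comm, hp.1.coprime_iff_not_dvd]

/-- the torus map of the matrix group is injective when the gcds with the invariant factors are trivial -/
theorem torusHom_bijective {D : ChevalleyDatum} {X : Aux} (C : Cert D X) (F : Type*) [Field F] [Fintype F]
    {M U U' V V' : List (List ℤ)} {d : List ℕ} (hM : cmat D = M) (hS : chkSmith D.rank M U U' V V' d = true)
    (hd : ∀ i : Fin D.rank, Nat.Coprime (Fintype.card F - 1) (d.getD i 0)) :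
    Function.Bijective (chevRel C F).torusHom := by
  classical
  have h1 := card_HS_mul C F hM hS
  rw [Finset.prod_eq_one fun i _ => hd i, one_mul] at h1
  refine (Nat.bijective_iff_surjective_and_card _).2 ⟨(chevRel C F).torusHom_surjective, ?_⟩
  rw [h1, Nat.card_fun, Nat.card_units, Nat.card_fin, Nat.card_eq_fintype_card]

end CfsgLib.Lie.Chev
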