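/-
Only the Steinberg weight has a module of dimension at least the order of `U`.
-/
import Cfsg.Agent.Lib.Lie.Rel.Modular.Count

set_option autoImplicit false

namespace CfsgLib.Lie.Chev

open Cfsg.Lie (ChevalleyDatum)

namespace Rel

variable {D : ChevalleyDatum} {X : Aux} {F : Type*} [Field F] {G : Type*} [Group G] (R : Rel D X F G)
  {k : Type*} [Field k] {V : Type*} [AddCommGroup V] [Module k V] (ρ : Representation k G V)
include R

theorem card_UN [Finite F] : Nat.card ↥R.UN = Nat.card ↥R.UP := by
  have := R.Finite_of_field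
  obtain ⟨n, hn1, hn2⟩ := R.exists_opp
  refine le_antisymm (Nat.card_le_card_of_injective (fun x : ↥R.UN => (⟨_, hn2 x x.2⟩ : ↥R.UP)) fun x y e => ?_)
    (Nat.card_le_card_of_injective (fun x : ↥R.UP => (⟨_, hn1 x x.2⟩ : ↥R.UN)) fun x y e => ?_) <;>
  exact Subtype.ext (mul_left_cancel (mul_right_cancel (congrArg Subtype.val e)))

/-- in dimension `|U|` or more the weight is the Steinberg weight -/
theorem steinberg_weight [Finite F] [FiniteDimensional k V] (hirr : NoInvSub ρ) {v : V} (hv : v ≠ 0)
    {χ : ↥R.HS →* kˣ} {c : Fin D.rank → Bool} (hw : R.IsWeight ρ v χ c)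
    (hdim : Nat.card ↥R.UP ≤ Module.finrank k V) : χ = 1 ∧ ∀ i, c i = true := by
  classical
  have := R.Finite_of_field
  have := Fintype.ofFinite F
  have := Fintype.ofFinite ↥R.UN
  have hspan : ⊤ ≤ Submodule.span k (Set.range fun u : ↥R.UN => ρ (u : G) v) := by
    rw [← R.span_eq_top ρ hirr hv hw]
    refine Submodule.span_le.2 ?_
    rintro _ ⟨u, hu, rfl⟩
    exact Submodule.subset_span ⟨⟨u, hu⟩, rfl⟩
  have hle : Module.finrank k V ≤ Fintype.card ↥R.UN := by
    rw [← finrank_top k V, ← top_le_iff.1 hspan]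
    exact finrank_range_le_card (R := k) _
  have hli := linearIndependent_of_top_le_span_of_card_eq_finrank hspan
    (le_antisymm (by rw [← Nat.card_eq_fintype_card, R.card_UN]; exact hdim) hle)
  have hc : ∀ i, c i = true := by
    intro i
    by_contra hci
    have h0 := hw.eig i
    rw [if_neg hci, zero_smul, tI, finsum_eq_sum_of_fintype] at h0
    have hsq : ρ (R.ne (D.simple i) 1 * R.ne (D.simple i) 1) v = (χ (R.heHom i (-1)) : k) • v := by
      rw [show R.ne (D.simple i) 1 * R.ne (D.simple i) 1 = R.he (D.simple i) (-1) from R.ne_sq (R.sroot i)]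
      have := hw.torus (R.heHom i (-1))
      simpa [heHom] using this
    let f : F → ↥R.UN := fun a => ⟨R.xe (D.neg (D.simple i)) (-a), R.xe_mem_US (S := negSet D)
      (r := R.negF (R.sroot i)) (fun hp => (R.negF_pos_iff _).1 hp (R.sroot_pos i)) _⟩
    have hf : Function.Injective f := fun a b e => neg_injective (R.xe_inj_param (r := R.negF (R.sroot i))
      (congrArg Subtype.val e))
    have h1 := congrArg (ρ (R.ne (D.simple i) 1)) h0
    rw [map_sum, map_zero] at h1
    have h2 : ∀ a : F, ρ (R.ne (D.simple i) 1) (ρ (R.xe (D.simple i) a * R.ne (D.simple i) 1) v) =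
        (χ (R.heHom i (-1)) : k) • ρ (f a : G) v := by
      intro a
      rw [← map_smul, ← hsq, ← Module.End.mul_apply, ← map_mul, ← Module.End.mul_apply, ← map_mul]
      congr 2
      show _ = R.xe (D.neg (D.simple i)) (-a) * _
      rw [← R.ne_conj_xe_simple i a]
      group
    rw [Finset.sum_congr rfl fun a _ => h2 a] at h1
    have h3 := (hli.comp f hf)
    have h4 := Fintype.linearIndependent_iff.1 h3 (fun _ => (χ (R.heHom i (-1)) : k)) h1 0
    exact Units.ne_zero _ h4
  refine ⟨MonoidHom.ext fun h => ?_, hc⟩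
  obtain ⟨t, rfl⟩ := R.torusHom_surjective h
  have h5 : χ.comp R.torusHom = 1 :=
    MonoidHom.functions_ext _ _ _ fun i a => by
      rw [MonoidHom.comp_apply, R.torusHom_single, MonoidHom.one_apply]
      exact hw.adm i (hc i) a
  exact DFunLike.congr_fun h5 t

end Rel

end CfsgLib.Lie.Chev
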