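/-
Two blocks in the defining characteristic for the adjoint elementary Chevalley groups.
-/
import Cfsg.Agent.Lib.Lie.Rel.Modular.Steinberg
import Cfsg.Agent.Lib.Lie.Rel.Modular.Classes
import Cfsg.Agent.Lib.Lie.Rel.BorelTits
import Cfsg.Agent.Lib.Lie.Rel.StFacts
import Cfsg.Agent.Lib.Lie.WeakClosed.ParabolicCentralizer
import Cfsg.Agent.Lib.Blocks.SingleBlockPositive

set_option autoImplicit false

universe u

namespace CfsgLib.Lie.Chev

open Cfsg.Lie (ChevalleyDatum)
open Cfsg CfsgLib.Blocks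

variable {D : ChevalleyDatum} {X : Aux} (C : Cert D X) (F : Type u) [Field F] [Fintype F]
  (p : ℕ) [Fact p.Prime] [CharP F p]
include C

/-- centralizers of elements of order `p` are constrained -/
theorem exists_constrained_centralizer (hD : Desc D X) (hsym : chkSymm D = true) (hc : Rel.Connected D)
    {z : ↥(D.group F)} (hz : orderOf z = p) :
    ∃ R : Subgroup ↥(D.group F), IsPGroup p R ∧ R ≤ Subgroup.centralizer ({z} : Set ↥(D.group F)) ∧
      Subgroup.centralizer ({z} : Set ↥(D.group F)) ≤ Subgroup.normalizer (R : Set ↥(D.group F)) ∧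
      Subgroup.centralizer (R : Set ↥(D.group F)) ≤ R := by
  classical
  let R := chevRel C F
  have : Finite ↥(D.group F) := R.Finite_of_field
  obtain ⟨P, hP⟩ := exists_sylow_UP C F p
  obtain ⟨Q, hQdef⟩ : ∃ Q, Q = Subgroup.zpowers z := ⟨_, rfl⟩
  have hQ : IsPGroup p Q := IsPGroup.of_card (n := 1) (by rw [hQdef, Nat.card_zpowers, hz, pow_one])
  have hz1 : z ≠ 1 := fun e => (Fact.out : p.Prime).ne_one (by rw [← hz, e, orderOf_one])
  obtain ⟨S, hS⟩ := hQ.exists_le_sylow
  obtain ⟨g₀, hg₀⟩ := MulAction.exists_smul_eq ↥(D.group F) P S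
  obtain ⟨g, J, hJ, hN, hR⟩ := R.borel_tits Q (by rw [hQdef]; simpa using hz1) g₀ fun x hx => by
    have h1 := hS hx
    rw [← hg₀, Sylow.coe_subgroup_smul, Subgroup.mem_pointwise_smul_iff_inv_smul_mem] at h1
    have h2 : g₀⁻¹ * x * g₀⁻¹⁻¹ ∈ (P : Subgroup ↥(D.group F)) := h1
    rw [inv_inv, hP] at h2
    exact h2
  have hle : R.UR J ≤ R.PJ J := le_trans le_sup_left (R.UR_sup_LJ J hD).le
  have hker : R.θ.ker = ⊥ := (MonoidHom.ker_eq_bot_iff _).2 (chevRel_injective C F)
  have hcent := R.centralizer_UR_le J hD hsym hc hker hJ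
  have hUP : IsPGroup p ↥R.UP := hP ▸ P.isPGroup'
  refine exists_constrained_of_local (P := (R.PJ J).map (MulAut.conj g).toMonoidHom)
    (U := (R.UR J).map (MulAut.conj g).toMonoidHom) hz ((hUP.to_le (R.UR_le_UP J)).map _)
    (Subgroup.map_mono hle) ?_ ?_ ?_ ?_
  · exact (Subgroup.map_mono (R.PJ_le_normalizer J hD)).trans (Subgroup.le_normalizer_map _)
  · rintro _ ⟨⟨y, hy, rfl⟩, hC⟩
    refine ⟨y, hcent ⟨hy, Subgroup.mem_centralizer_iff.2 fun q hq => ?_⟩, rfl⟩
    exact (MulAut.conj g).injective (by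
      rw [map_mul, map_mul]; exact Subgroup.mem_centralizer_iff.1 hC _ ⟨q, hq, rfl⟩)
  · refine ⟨g⁻¹ * z * g, hR z (hQdef ▸ Subgroup.mem_zpowers z), ?_⟩
    simp [mul_assoc]
  · intro y hy
    refine ⟨g⁻¹ * y * g, hN y ?_, by simp [mul_assoc]⟩
    rw [hQdef, Subgroup.mem_normalizer_iff]
    intro x
    have hcy : Commute y z := Subgroup.mem_centralizer_singleton_iff.1 hy
    have hc' : ∀ m : ℤ, y * z ^ m * y⁻¹ = z ^ m := fun m => by
      rw [(hcy.zpow_right m).eq, mul_inv_cancel_right]
    constructor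
    · intro hx
      obtain ⟨m, rfl⟩ := Subgroup.mem_zpowers_iff.1 hx
      rw [hc']; exact ⟨m, rfl⟩
    · intro hx
      obtain ⟨m, hm⟩ := Subgroup.mem_zpowers_iff.1 hx
      refine ⟨m, ?_⟩
      have e : y * (z ^ m) * y⁻¹ = y * x * y⁻¹ := (hc' m).trans hm
      exact mul_left_cancel (mul_right_cancel e)

/-- exactly two blocks -/
theorem card_blocks_eq_two (hD : Desc D X) (hsym : chkSymm D = true) (hc : Rel.Connected D)
    (M : Ideal AlgInt) (hM : IsPModular p M) :
    Nat.card {B : Set (IrrCharacter ↥(D.group F)) // IsPBlock M B} = 2 := by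
  classical
  let R := chevRel C F
  have : Finite ↥(D.group F) := R.Finite_of_field
  have := Fintype.ofFinite ↥(D.group F)
  have := hM.2.1.isPrime
  have := charP_residueField hM
  have := CfsgLib.Star.isAlgClosed_res (M := M)
  obtain ⟨Q⟩ := CfsgLib.IBr.nonempty_data (G := ↥(D.group F)) (M := M)
  obtain ⟨P, hP⟩ := exists_sylow_UP C F p
  have hpow : p ^ (Nat.card ↥(D.group F)).factorization p = Nat.card ↥R.UP := by
    rw [← P.card_eq_multiplicity, hP]
  have hUP : Nat.card ↥R.UP = Fintype.card F ^ (D.nroots / 2) := by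
    have hK : ∀ i < D.rank, i ∈ ((Finset.range D.rank : Finset ℕ) : Set ℕ) :=
      fun i hi => Finset.mem_coe.2 (Finset.mem_range.2 hi)
    rw [R.card_UP_eq hK, R.nSub_univ hK, Nat.card_eq_fintype_card]
  let St : IrrCharacter ↥(D.group F) := ⟨_, isIrr_steinberg C F⟩
  have hStdeg : charDegree (St : ↥(D.group F) → ℂ) = Nat.card ↥R.UP := by
    refine CharDegree.charDegree_eq_of_apply_one ?_
    rw [hUP, Nat.cast_pow]
    exact steinberg_one C F
  have hfull : ∀ χ : IrrCharacter ↥(D.group F),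
      (charDegree (χ : ↥(D.group F) → ℂ)).factorization p = (Nat.card ↥(D.group F)).factorization p →
        ¬ p ∣ Nat.card ↥(D.group F) / charDegree (χ : ↥(D.group F) → ℂ) ∧
          blockOf M (χ : ↥(D.group F) → ℂ) = {χ} := by
    intro χ h
    have hnd : ¬ p ∣ Nat.card ↥(D.group F) / charDegree (χ : ↥(D.group F) → ℂ) := by
      intro hd
      obtain ⟨q, hq⟩ := CharDegree.charDegree_dvd_card χ
      rw [hq, Nat.mul_div_cancel_left _ (CharDegree.charDegree_pos χ)] at hd
      have hq0 : q ≠ 0 := fun e => (Nat.card_pos (α := ↥(D.group F))).ne' (by rw [hq, e, mul_zero])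
      rw [hq, Nat.factorization_mul (CharDegree.charDegree_pos χ).ne' hq0, Finsupp.add_apply] at h
      have := (Fact.out : p.Prime).factorization_pos_of_dvd hq0 hd
      omega
    exact ⟨hnd, blockOf_eq_singleton hM χ hnd⟩
  have hStfac : (charDegree (St : ↥(D.group F) → ℂ)).factorization p =
      (Nat.card ↥(D.group F)).factorization p := by
    rw [hStdeg, ← hpow, Nat.Prime.factorization_pow Fact.out, Finsupp.single_eq_same]
  have huniq : ∀ χ : IrrCharacter ↥(D.group F),
      (charDegree (χ : ↥(D.group F) → ℂ)).factorization p = (Nat.card ↥(D.group F)).factorization p → χ = St := by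
    have key : ∀ χ : IrrCharacter ↥(D.group F),
        (charDegree (χ : ↥(D.group F) → ℂ)).factorization p = (Nat.card ↥(D.group F)).factorization p →
        ∃ δ, Q.block hM δ = {χ} ∧ ∃ v, v ≠ 0 ∧ R.IsWeight (facRep Q.ψ δ) v 1 fun _ => true := by
      intro χ h
      obtain ⟨δ, hδ, hblk⟩ := exists_phi_degree hM Q χ (hfull χ h).1
      obtain ⟨v, ω, c, hv, hw⟩ := R.exists_weight' (facRep Q.ψ δ) p
      have hle : Nat.card ↥R.UP ≤ Module.finrank (Res M) (Fin (Q.d δ) → Res M) := by
        rw [Module.finrank_fin_fun, hδ, ← hpow, ← h]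
        exact Nat.ordProj_le p (CharDegree.charDegree_pos χ).ne'
      obtain ⟨rfl, hcc⟩ := R.steinberg_weight _ (facRep_noInv Q.ψ Q.surj δ) hv hw hle
      exact ⟨δ, hblk, v, hv, by rwa [show c = fun _ => true from funext hcc] at hw⟩
    intro χ h
    obtain ⟨δ, hδ, v, hv, hw⟩ := key χ h
    obtain ⟨δ', hδ', v', hv', hw'⟩ := key St hStfac
    obtain rfl := R.eq_of_weight Q.ψ p Q.surj hv hv' hw hw'
    exact Set.singleton_injective (hδ.symm.trans hδ')
  have hmem : ∀ B, IsPBlock M B ↔ B = blockOf M (Char.trivChar ↥(D.group F) : ↥(D.group F) → ℂ) ∨ B = {St} := by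
    intro B
    refine ⟨fun hB => ?_, ?_⟩
    · by_cases hd : ∀ χ ∈ B, (charDegree (χ : ↥(D.group F) → ℂ)).factorization p ≠
        (Nat.card ↥(D.group F)).factorization p
      · exact Or.inl (IsPBlock.eq_blockOf hB (trivChar_mem_of_centralizers_constrained hM hB hd
          fun z hz => exists_constrained_centralizer C F p hD hsym hc hz))
      · push Not at hd
        obtain ⟨χ, hχB, hχ⟩ := hd
        refine Or.inr ?_
        rw [IsPBlock.eq_blockOf hB hχB, (hfull χ hχ).2, huniq χ hχ]
    · rintro (rfl | rfl)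
      · exact isPBlock_blockOf _
      · rw [← (hfull St hStfac).2]; exact isPBlock_blockOf _
  have hne : blockOf M (Char.trivChar ↥(D.group F) : ↥(D.group F) → ℂ) ≠ {St} := by
    intro e
    have h1 : Char.trivChar ↥(D.group F) = St := by
      have := mem_blockOf_self (M := M) (Char.trivChar ↥(D.group F))
      rwa [e] at this
    have h2 : charDegree (St : ↥(D.group F) → ℂ) = 1 := by rw [← h1]; exact CharDegree.charDegree_one
    rw [hStdeg, hUP] at h2
    have h3 : 1 < Fintype.card F ^ (D.nroots / 2) := by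
      refine one_lt_pow₀ Fintype.one_lt_card ?_
      have := C.nroots_eq
      have := C.rank_pos
      have := C.simple_pos (i := 0) this
      have := C.simple_lt (i := 0) (by assumption)
      omega
    omega
  rw [Nat.card_congr (Equiv.subtypeEquivRight hmem)]
  exact Set.ncard_pair hne

end CfsgLib.Lie.Chev
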